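import Mathlib
import Cfsg.Prelude.Def_Local
import Cfsg.Agent.Lib.Cores.PCore
import Cfsg.Agent.Lib.CoprimeAction.Basic
import Cfsg.Agent.Lib.Correspondences.TwoPrimeCores

/-!
In a `p`-solvable group an element of order prime to `p` centralizing a Sylow `p`-subgroup lies
in `O_{p'}(G)`.
-/

set_option autoImplicit false
set_option linter.style.haveILetI false

namespace CfsgLib.Correspondences

open Cfsg Subgroup

variable {G : Type*} [Group G] [Finite G] {p : ℕ} [hp : Fact p.Prime]

theorem centralizer_pCore_le (h : IsPSolvable p G) (hbot : pPrimeCore p G = ⊥) :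
    centralizer ((pCore p G : Subgroup G) : Set G) ≤ pCore p G := by
  set C := centralizer ((pCore p G : Subgroup G) : Set G) with hC
  by_contra hCD
  haveI hCn : C.Normal := inferInstance
  set Z := C ⊓ pCore p G with hZ
  have hlt : Z < C := lt_of_le_of_ne inf_le_left fun e => hCD (e ▸ inf_le_right)
  obtain ⟨X, hXn, hZX, hXC, hcase⟩ := exists_normal_step h hCn hlt
  have hZp : IsPGroup p Z := (CfsgLib.Cores.isPGroup_pCore p G).to_le inf_le_right
  obtain ⟨a, ha⟩ := IsPGroup.iff_card.1 hZp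
  set Z' : Subgroup X := Z.subgroupOf X with hZ'
  have hcard' : Nat.card Z' = Nat.card Z := Nat.card_congr (subgroupOfEquivOfLe hZX.le).toEquiv
  rcases hcase with ⟨m, hm⟩ | hc
  · have hX : IsPGroup p X := IsPGroup.iff_card.2 ⟨a + m, by
      rw [← Subgroup.card_mul_index Z', hcard', ha, pow_add]
      exact congrArg _ hm⟩
    exact hZX.ne (le_antisymm hZX.le (le_inf hXC (CfsgLib.Cores.le_pCore hX)))
  · have hcop : (Nat.card Z').Coprime Z'.index := by
      rw [hcard', ha]; exact hc.symm.pow_left a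
    obtain ⟨H, hH⟩ := exists_right_complement'_of_coprime hcop
    set H' : Subgroup G := H.map X.subtype with hH'
    have hcardH : Nat.card H' = Z.relIndex X := by
      rw [hH', Subgroup.card_subtype]; exact hH.symm.index_eq_card.symm
    haveI : H'.Normal := by
      refine ⟨fun x hx g => ?_⟩
      obtain ⟨y, hy, rfl⟩ := hx
      have hzX : g * (y : G) * g⁻¹ ∈ X := hXn.conj_mem _ y.2 g
      obtain ⟨⟨⟨z, hzZ⟩, ⟨k, hk⟩⟩, hzk⟩ := hH.2 ⟨_, hzX⟩
      have hzk' : (z : G) * (k : G) = g * (y : G) * g⁻¹ := congrArg Subtype.val hzk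
      have hcz : Commute (z : G) (k : G) := by
        have hkC : (k : G) ∈ C := hXC k.2
        exact Subgroup.mem_centralizer_iff.1 hkC _ (Subgroup.mem_inf.1 hzZ).2
      have hpow : ∀ w : X, w ∈ H → (w : G) ^ Nat.card H' = 1 := by
        intro w hw
        have := pow_card_eq_one' (x := (⟨(w : G), ⟨w, hw, rfl⟩⟩ : H'))
        exact congrArg Subtype.val this
      have h1 : ((z : G) * (k : G)) ^ Nat.card H' = 1 := by
        rw [hzk', conj_pow, hpow y hy]; group
      rw [hcz.mul_pow, hpow k hk, mul_one] at h1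
      have h2 : (z : G) ^ Nat.card Z = 1 := by
        have := pow_card_eq_one' (x := (⟨(z : G), hzZ⟩ : Z))
        exact congrArg Subtype.val this
      have h3 : (z : G) = 1 := orderOf_eq_one_iff.1 (Nat.eq_one_of_dvd_coprimes
        (by rw [ha, hcardH]; exact hc.symm.pow_left a)
        (orderOf_dvd_of_pow_eq_one h2) (orderOf_dvd_of_pow_eq_one h1))
      rw [h3, one_mul] at hzk'
      exact ⟨k, hk, hzk'⟩
    have hle : H' ≤ pPrimeCore p G := CfsgLib.Cores.le_pPrimeCore (hcardH ▸ hc)
    rw [hbot, le_bot_iff] at hle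
    rw [hle, Subgroup.card_bot] at hcardH
    exact hZX.not_ge (Subgroup.relIndex_eq_one.1 hcardH.symm)

theorem mem_pPrimeCore_of_centralizes_sylow (h : IsPSolvable p G) (P : Sylow p G) {s : G}
    (hs : ¬ p ∣ orderOf s) (hc : ∀ x ∈ (P : Subgroup G), x * s = s * x) :
    s ∈ pPrimeCore p G := by
  set N := pPrimeCore p G with hN
  have hsurj := QuotientGroup.mk'_surjective N
  have hle := centralizer_pCore_le (isPSolvable_map h _ hsurj)
    (CfsgLib.Cores.pPrimeCore_quotient_pPrimeCore p)
  have hmem : (QuotientGroup.mk' N s) ∈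
      centralizer ((pCore p (G ⧸ N) : Subgroup (G ⧸ N)) : Set (G ⧸ N)) := by
    refine Subgroup.mem_centralizer_iff.2 fun y hy => ?_
    obtain ⟨x, hx, rfl⟩ := CfsgLib.Cores.pCore_le_sylow (P.mapSurjective hsurj) hy
    rw [← map_mul, ← map_mul, hc x hx]
  obtain ⟨k, hk⟩ := CfsgLib.Cores.isPGroup_pCore p (G ⧸ N) ⟨_, hle hmem⟩
  have hk' : (QuotientGroup.mk' N s) ^ p ^ k = 1 := congrArg Subtype.val hk
  have h1 : orderOf (QuotientGroup.mk' N s) ∣ orderOf s := orderOf_map_dvd _ s
  have h2 := Nat.eq_one_of_dvd_coprimes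
    ((hp.out.coprime_iff_not_dvd.2 hs).pow_left k) (orderOf_dvd_of_pow_eq_one hk') h1
  exact (QuotientGroup.eq_one_iff s).1 (orderOf_eq_one_iff.1 h2)

end CfsgLib.Correspondences
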