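import Mathlib
import Cfsg.Agent.Lib.Correspondences.CharKer
import Cfsg.Agent.Lib.Correspondences.Constrained
import Cfsg.Agent.Lib.Blocks.LocalRing
import Cfsg.Agent.Lib.Blocks.RootsOfUnity

/-!
The principal block has every normal `p'`-subgroup in its kernel; in a `p`-solvable group an
irreducible character of `p'`-degree trivial on `O_{p'}(G)` lies in the principal block.
-/

set_option autoImplicit false
set_option linter.style.haveILetI false

namespace CfsgLib.Correspondences

open Cfsg CfsgLib.CharTheory CfsgLib.Blocks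

variable {G : Type*} [Group G] [Finite G] {p : ℕ} {M : Ideal AlgInt}

theorem centralChar_one_eq (g : G) :
    centralChar (fun _ : G => (1 : ℂ)) g =
      ((Subgroup.centralizer ({g} : Set G)).index : ℂ) := by
  simp [centralChar]

theorem natCard_carrier_eq_index (g : G) :
    Nat.card {x : G // IsConj g x} = (Subgroup.centralizer ({g} : Set G)).index := by
  have h1 : Nat.card {x : G // IsConj g x} = Nat.card (MulAction.orbit (ConjAct G) g) :=
    Nat.card_congr (Equiv.subtypeEquivRight fun x => by
      rw [ConjAct.mem_orbit_conjAct]; exact isConj_comm)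
  rw [h1, Nat.card_congr (MulAction.orbitEquivQuotientStabilizer (ConjAct G) g)]
  have h2 := Subgroup.card_eq_card_quotient_mul_card_subgroup (MulAction.stabilizer (ConjAct G) g)
  have h3 : Nat.card (MulAction.stabilizer (ConjAct G) g) =
      Nat.card (Subgroup.centralizer ({g} : Set G)) := by
    refine Nat.card_congr (Equiv.subtypeEquiv ConjAct.ofConjAct.toEquiv fun a => ?_)
    rw [MulAction.mem_stabilizer_iff, ConjAct.smul_def, Subgroup.mem_centralizer_singleton_iff]
    exact mul_inv_eq_iff_eq_mul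
  have h4 : Nat.card (ConjAct G) = Nat.card G := Nat.card_congr ConjAct.ofConjAct.toEquiv
  have h5 := Subgroup.card_mul_index (Subgroup.centralizer ({g} : Set G))
  rw [h3, h4, ← h5, mul_comm] at h2
  exact (Nat.eq_of_mul_eq_mul_right Nat.card_pos h2).symm

/-- A normal subgroup of order prime to `p` is in the kernel of every member of the principal
block. -/
theorem apply_eq_of_mem_principalBlock (hM : IsPModular p M) {χ : IrrCharacter G}
    (hχ : χ ∈ principalBlock M G) (N : Subgroup G) [hN : N.Normal] (hp : ¬ p ∣ Nat.card N)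
    {x : G} (hx : x ∈ N) : (χ : G → ℂ) x = (χ : G → ℂ) 1 := by
  classical
  haveI := isPrime_of_isPModular hM
  haveI := Fintype.ofFinite G
  by_contra hne
  haveI := Fintype.ofFinite N
  have hsum := sum_normal_eq_zero χ.2 N ⟨x, hx, hne⟩
  have h1 : (χ : G → ℂ) 1 ≠ 0 := apply_one_ne_zero_of_isIrr χ.2
  apply hp
  rw [← memLocalIdeal_natCast_iff hM]
  have key : ∑ n : N, (1 - (χ : G → ℂ) (n : G) / (χ : G → ℂ) 1) = (Nat.card N : ℂ) := by
    rw [Finset.sum_sub_distrib, ← Finset.sum_div, hsum, Finset.sum_const, Finset.card_univ,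
      Nat.card_eq_fintype_card]
    simp
  rw [← key, ← Finset.sum_fiberwise Finset.univ (fun n : N => ConjClasses.mk (n : G))]
  refine memLocalIdeal_sum fun c _ => ?_
  rcases Finset.eq_empty_or_nonempty
    (Finset.univ.filter fun n : N => ConjClasses.mk (n : G) = c) with he | ⟨n₀, hn₀⟩
  · rw [he, Finset.sum_empty]; exact memLocalIdeal_zero
  simp only [Finset.mem_filter, Finset.mem_univ, true_and] at hn₀
  have hclass := IsIrrCharacter.isClassFunction χ.2
  have hconst : ∀ n ∈ Finset.univ.filter (fun n : N => ConjClasses.mk (n : G) = c),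
      1 - (χ : G → ℂ) (n : G) / (χ : G → ℂ) 1 = 1 - (χ : G → ℂ) (n₀ : G) / (χ : G → ℂ) 1 := by
    intro n hn
    simp only [Finset.mem_filter, Finset.mem_univ, true_and] at hn
    obtain ⟨g, hg⟩ := isConj_iff.1 (ConjClasses.mk_eq_mk_iff_isConj.1 (hn₀.trans hn.symm))
    rw [← hg, hclass]
  rw [Finset.sum_congr rfl hconst, Finset.sum_const, nsmul_eq_mul]
  have hcard : (Finset.univ.filter (fun n : N => ConjClasses.mk (n : G) = c)).card =
      (Subgroup.centralizer ({(n₀ : G)} : Set G)).index := by
    rw [← natCard_carrier_eq_index, ← Fintype.card_subtype, ← Nat.card_eq_fintype_card]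
    refine Nat.card_congr
      { toFun := fun n => ⟨(n.1 : G), ConjClasses.mk_eq_mk_iff_isConj.1 (hn₀.trans n.2.symm)⟩
        invFun := fun y => ⟨⟨y.1, by
            obtain ⟨g, hg⟩ := isConj_iff.1 y.2
            rw [← hg]; exact hN.conj_mem _ n₀.2 g⟩,
          (ConjClasses.mk_eq_mk_iff_isConj.2 y.2).symm.trans hn₀⟩
        left_inv := fun n => rfl
        right_inv := fun y => rfl }
  have := hχ (n₀ : G)
  rw [centralChar_one_eq, centralChar] at this
  rw [hcard, mul_sub, mul_one, mul_div_assoc']
  exact this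

/-- Congruence of values at elements acting with `p`-power order. -/
theorem memLocalIdeal_apply_sub_one (hM : IsPModular p M) {χ : G → ℂ} (hχ : IsCharacter G χ)
    {g : G} {k : ℕ} (hk : χ (g ^ p ^ k) = χ 1) : MemLocalIdeal M (χ g - χ 1) := by
  classical
  haveI := isPrime_of_isPModular hM
  obtain ⟨n, ρ, rfl⟩ := hχ
  obtain ⟨ι, hι, b, μ, hcard, -, hb, hchar⟩ := exists_eigenbasis ρ g
  have hμ : ∀ i, μ i ^ p ^ k = 1 := by
    intro i
    have h := hb (p ^ k) i
    rw [rep_eq_one_of_apply_eq ρ hk, Module.End.one_apply] at h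
    have h' : (μ i ^ p ^ k - 1) • b i = 0 := by rw [sub_smul, one_smul, ← h, sub_self]
    exact sub_eq_zero.1 ((smul_eq_zero.1 h').resolve_right (b.ne_zero i))
  have h1 := hchar 1
  simp only [pow_one] at h1
  rw [h1, Representation.char_one, ← hcard]
  have : ∑ i, μ i - ((Fintype.card ι : ℕ) : ℂ) = ∑ i, (μ i - 1) := by
    rw [Finset.sum_sub_distrib]; simp
  rw [this]
  exact memLocalIdeal_sum fun i _ => memLocalIdeal_sub_one_of_pow_prime_pow hM (hμ i)

/-- A `p'`-degree character trivial on `O_{p'}(G)` of a `p`-solvable group is in the principal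
block. -/
theorem mem_principalBlock_of_not_dvd [Fact p.Prime] (hM : IsPModular p M) (hs : IsPSolvable p G)
    (χ : IrrCharacter G) (hdeg : ¬ p ∣ charDegree (χ : G → ℂ))
    (hker : ∀ x ∈ pPrimeCore p G, (χ : G → ℂ) x = (χ : G → ℂ) 1) :
    χ ∈ principalBlock M G := by
  haveI := isPrime_of_isPModular hM
  have hχc := IsIrrCharacter.isCharacter χ.2
  have h1 : (χ : G → ℂ) 1 ≠ 0 := apply_one_ne_zero_of_isIrr χ.2
  have hinv : MemLocalRing M ((χ : G → ℂ) 1)⁻¹ := by
    rw [← charDegree_cast hχc]; exact memLocalRing_inv_natCast hM hdeg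
  intro g
  set C := Subgroup.centralizer ({g} : Set G) with hC
  rw [centralChar_one_eq, centralChar, ← hC]
  have heq : (C.index : ℂ) - (C.index : ℂ) * (χ : G → ℂ) g / (χ : G → ℂ) 1 =
      (((C.index : ℂ) * ((χ : G → ℂ) 1)⁻¹) * ((χ : G → ℂ) 1 - (χ : G → ℂ) g)) := by
    field_simp
  rw [heq]
  by_cases hdvd : p ∣ C.index
  · refine memLocalIdeal_mul_right (memLocalIdeal_mul_right ((memLocalIdeal_natCast_iff hM _).2 hdvd)
      hinv) ?_
    exact memLocalRing_of_isIntegral
      ((IsCharacter.isIntegral hχc 1).sub (IsCharacter.isIntegral hχc g))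
  · refine memLocalIdeal_mul_left (memLocalRing_mul (memLocalRing_natCast _) hinv) ?_
    rw [memLocalIdeal_sub_comm]
    obtain ⟨P₀⟩ := (Sylow.nonempty : Nonempty (Sylow p C))
    set Q : Subgroup G := (P₀ : Subgroup C).map C.subtype with hQ
    have hQp : IsPGroup p Q := P₀.2.map _
    have hQi : ¬ p ∣ Q.index := by
      rw [hQ, Subgroup.index_map_subtype]
      exact (Fact.out : p.Prime).not_dvd_mul P₀.not_dvd_index hdvd
    set P : Sylow p G := hQp.toSylow hQi with hP
    obtain ⟨a, ha⟩ : ∃ a, a = (orderOf g).factorization p := ⟨_, rfl⟩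
    refine memLocalIdeal_apply_sub_one hM hχc (k := a) (hker _ ?_)
    refine mem_pPrimeCore_of_centralizes_sylow hs P ?_ ?_
    · rw [orderOf_pow_of_dvd (pow_ne_zero _ (Fact.out : p.Prime).ne_zero)
        (ha ▸ Nat.ordProj_dvd _ _), ha]
      exact Nat.not_dvd_ordCompl Fact.out (orderOf_pos g).ne'
    · intro x hx
      have hxC : x ∈ C := Subgroup.map_subtype_le _ hx
      exact (Commute.pow_right (Subgroup.mem_centralizer_singleton_iff.1 hxC) _).eq

end CfsgLib.Correspondences
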