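import Mathlib
import Cfsg.Prelude.Def_DegreeGraph
import Cfsg.Agent.Lib.CharDegrees.SL2Spectrum
import Cfsg.Agent.Lib.Correspondences.CharKer
import Cfsg.Agent.Lib.CharTheory.Degree

/-!
The degrees of the irreducible characters of `SL(2, q)` for `q` even.
-/

set_option autoImplicit false
set_option linter.style.haveILetI false
set_option linter.unusedSectionVars false
set_option linter.unusedSimpArgs false

namespace CfsgLib.Correspondences

open Cfsg CfsgLib.SL2 CfsgLib.CharDegrees CfsgLib.CharTheory
open CfsgLib.ClassicalLinear (upS upS_coe)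
open Matrix
open scoped MatrixGroups

theorem charDegrees_mulEquiv_subset {G H : Type*} [Group G] [Group H] (e : G ≃* H) :
    charDegrees H ⊆ charDegrees G := by
  rintro d ⟨χ, rfl⟩
  refine ⟨⟨_, isIrrCharacter_comp_mulEquiv χ.2 e⟩, ?_⟩
  simp [charDegree, map_one]

theorem charDegrees_mulEquiv {G H : Type*} [Group G] [Group H] (e : G ≃* H) :
    charDegrees G = charDegrees H :=
  (charDegrees_mulEquiv_subset e.symm).antisymm (charDegrees_mulEquiv_subset e)

section SL2

variable {F : Type*} [Field F] [Fintype F] [DecidableEq F] [CharP F 2]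

theorem two_eq_zero' : (2 : F) = 0 := by exact_mod_cast CharP.cast_eq_zero F 2

theorem unit_eq_one_of_sq {a : Fˣ} (h : a ^ 2 = 1) : a = 1 := by
  apply Units.ext
  have h' : (a : F) ^ 2 = 1 := by rw [← Units.val_pow_eq_pow_val, h, Units.val_one]
  have h2 := two_eq_zero' (F := F)
  have : ((a : F) - 1) ^ 2 = 0 := by linear_combination h' + (1 - (a : F)) * h2
  simpa [sub_eq_zero] using (pow_eq_zero_iff two_ne_zero).1 this

theorem exists_sq_unit (a : Fˣ) : ∃ b : Fˣ, b ^ 2 = a := by
  have hinj : Function.Injective (fun b : Fˣ => b ^ 2) := fun b c h => by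
    have : (b * c⁻¹) ^ 2 = 1 := by
      simp only at h
      rw [mul_pow, inv_pow, h, mul_inv_cancel]
    exact mul_inv_eq_one.1 (unit_eq_one_of_sq this)
  exact (Finite.injective_iff_surjective.1 hinj) a

theorem mulChar_eq_one_of_sq {α : MulChar F ℂ} (h : α * α = 1) : α = 1 := by
  refine MulChar.ext fun a => ?_
  obtain ⟨b, rfl⟩ := exists_sq_unit a
  have h1 : (α * α) (b : F) = (1 : MulChar F ℂ) (b : F) := by rw [h]
  rw [MulChar.mul_apply, MulChar.one_apply_coe] at h1
  rw [MulChar.one_apply_coe, Units.val_pow_eq_pow_val, map_pow, sq]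
  exact h1

theorem principalSeries_irr {α : MulChar F ℂ} (h : α ≠ 1) :
    IsIrrCharacter (SL(2, F)) (principalSeries α) := by
  classical
  rw [isIrrCharacter_iff_norm_one (principalSeries_isChar α), classInner_ps_ps, if_pos rfl,
    if_neg (fun hh => h (mulChar_eq_one_of_sq hh)), add_zero]

/-- The Steinberg character. -/
noncomputable def steinberg (F : Type*) [Field F] [Fintype F] [DecidableEq F] : SL(2, F) → ℂ :=
  principalSeries (1 : MulChar F ℂ) - fun _ => (1 : ℂ)

theorem steinberg_apply_one : steinberg F (1 : SL(2, F)) = (Fintype.card F : ℂ) := by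
  simp [steinberg, principalSeries_one_apply]

theorem steinberg_irr : IsIrrCharacter (SL(2, F)) (steinberg F) := by
  classical
  refine isIrrCharacter_of_norm_one ?_ ?_ ?_
  · exact ⟨_, _, principalSeries_isChar 1,
      IsIrrCharacter.isCharacter isIrrCharacter_one, rfl⟩
  · rw [steinberg, classInner_sub_left, classInner_sub_right, classInner_sub_right,
      classInner_conj_symm (principalSeries (1 : MulChar F ℂ)) (fun _ => (1 : ℂ)),
      classInner_one_ps, classInner_ps_ps, if_pos rfl, if_pos (one_mul _),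
      classInner_self_of_isIrr isIrrCharacter_one]
    simp
  · rw [steinberg_apply_one, Complex.natCast_re]
    exact_mod_cast Fintype.card_pos

theorem companion_coe (t : F) : ((companion t : SL(2, F)) : Matrix (Fin 2) (Fin 2) F) =
    !![0, -1; 1, t] := rfl

theorem card_add_one_le_classes :
    Fintype.card F + 1 ≤ Nat.card (ConjClasses (SL(2, F))) := by
  let f : Option F → ConjClasses (SL(2, F)) :=
    fun o => o.elim (ConjClasses.mk 1) (fun t => ConjClasses.mk (companion t))
  have hne : ∀ t : F, ¬IsConj (1 : SL(2, F)) (companion t) := by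
    intro t h
    have h1 := isConj_one_right.1 h
    have h2 := congrArg (fun g : SL(2, F) => (g : Matrix (Fin 2) (Fin 2) F) 0 0) h1
    simp [companion_coe] at h2
  have hf : Function.Injective f := by
    intro a b h
    cases a with
    | none =>
      cases b with
      | none => rfl
      | some t => exact absurd (ConjClasses.mk_eq_mk_iff_isConj.1 h) (hne t)
    | some s =>
      cases b with
      | none => exact absurd (ConjClasses.mk_eq_mk_iff_isConj.1 h.symm) (hne s)
      | some t =>
        obtain ⟨k, hk⟩ := isConj_iff.1 (ConjClasses.mk_eq_mk_iff_isConj.1 h)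
        have ht := congrArg tr hk
        rw [tr_conj] at ht
        simpa [tr, companion_coe] using congrArg some ht
  simpa [Nat.card_eq_fintype_card, Fintype.card_option] using Nat.card_le_card_of_injective f hf

/-- The degree of a character orthogonal to the principal series. -/
theorem dvd_of_cuspidal {χ : SL(2, F) → ℂ} (hχ : IsIrrCharacter _ χ)
    (h0 : ∀ α : MulChar F ℂ, classInner χ (principalSeries α) = 0) :
    Fintype.card F - 1 ∣ charDegree χ := by
  have hc := IsIrrCharacter.isClassFunction hχ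
  have hd := charDegree_cast (IsIrrCharacter.isCharacter hχ)
  have hconj : ∀ x : F, x ≠ 0 → χ (upS x) = χ (upS 1) := by
    intro x hx
    obtain ⟨a, ha⟩ := exists_sq_unit (Units.mk0 x hx)
    have hax : (a : F) ^ 2 * 1 = x := by
      rw [mul_one, ← Units.val_pow_eq_pow_val, ha, Units.val_mk0]
    rw [← hax, ← conj_diag_upS]
    exact hc (upS 1) (SL2.diag a)
  have hsum := unipotent_sum hc
  rw [Finset.sum_eq_zero (fun α _ => h0 α), mul_zero, ← Finset.add_sum_erase _ _ (Finset.mem_univ (0 : F)),
    Finset.sum_congr rfl (fun x hx => hconj x (Finset.ne_of_mem_erase hx)), Finset.sum_const,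
    Finset.card_erase_of_mem (Finset.mem_univ _), Finset.card_univ, upS_zero', nsmul_eq_mul, ← hd] at hsum
  have hq : Fintype.card F - 1 ≠ 0 := by
    have := Fintype.one_lt_card (α := F)
    omega
  refine dvd_of_isIntegral_natCast_div hq ?_
  have hint : IsIntegral ℤ (-χ (upS 1)) :=
    (IsCharacter.isIntegral (IsIrrCharacter.isCharacter hχ) (upS 1)).neg
  convert hint using 1
  rw [div_eq_iff (Nat.cast_ne_zero.2 hq)]
  linear_combination hsum

/-- The degrees of the irreducible characters of `SL(2, q)`, `q ≥ 4` even. -/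
theorem charDegrees_SL2_even (h4 : 4 ≤ Fintype.card F) :
    charDegrees (SL(2, F)) =
      {1, Fintype.card F - 1, Fintype.card F, Fintype.card F + 1} := by
  classical
  haveI := Fintype.ofFinite (IrrCharacter (SL(2, F)))
  set q := Fintype.card F with hq
  let one : IrrCharacter (SL(2, F)) := trivIrr _
  let st : IrrCharacter (SL(2, F)) := ⟨_, steinberg_irr⟩
  let P : MulChar F ℂ → IrrCharacter (SL(2, F)) :=
    fun α => if h : α = 1 then one else ⟨_, principalSeries_irr h⟩
  have hPcoe : ∀ α : MulChar F ℂ, α ≠ 1 → ((P α : IrrCharacter _) : SL(2, F) → ℂ) = principalSeries α := by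
    intro α h
    simp [P, h]
  let A : Finset (IrrCharacter (SL(2, F))) := (Finset.univ.erase (1 : MulChar F ℂ)).image P
  have hdegA : ∀ χ ∈ A, charDegree (χ : SL(2, F) → ℂ) = q + 1 := by
    intro χ hχ
    obtain ⟨α, hα, rfl⟩ := Finset.mem_image.1 hχ
    rw [hPcoe α (Finset.ne_of_mem_erase hα), charDegree, principalSeries_apply_one,
      show (Fintype.card F : ℂ) + 1 = ((q + 1 : ℕ) : ℂ) by push_cast [hq]; rfl, Complex.natCast_re,
      Nat.floor_natCast]
  have hdeg1 : charDegree (one : SL(2, F) → ℂ) = 1 := by simp [charDegree, one, trivIrr_apply]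
  have hdegst : charDegree (st : SL(2, F) → ℂ) = q := by
    simp [charDegree, st, steinberg_apply_one, ← hq]
  have h1A : one ∉ A := fun h => by have := hdegA _ h; omega
  have hsA : st ∉ A := fun h => by have := hdegA _ h; omega
  have h1s : one ≠ st := fun h => by rw [h] at hdeg1; omega
  -- the number of principal series characters
  have hfib : ∀ α : MulChar F ℂ, α ≠ 1 →
      (Finset.univ.erase (1 : MulChar F ℂ)).filter (fun β => P β = P α) = {α, α⁻¹} := by
    intro α hα
    have hα' : α⁻¹ ≠ 1 := inv_ne_one.2 hα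
    ext β
    simp only [Finset.mem_filter, Finset.mem_erase, Finset.mem_univ, and_true, Finset.mem_insert,
      Finset.mem_singleton]
    constructor
    · rintro ⟨hβ, h⟩
      have h' : principalSeries β = principalSeries α := by rw [← hPcoe β hβ, ← hPcoe α hα, h]
      by_contra hne
      push Not at hne
      have hi := classInner_ps_ps β α
      rw [if_neg hne.1, if_neg (fun e => hne.2 (eq_inv_of_mul_eq_one_left e)), h', ← hPcoe α hα,
        classInner_self_of_isIrr (P α).2] at hi
      norm_num at hi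
    · rintro (rfl | rfl)
      · exact ⟨hα, rfl⟩
      · refine ⟨hα', Subtype.ext ?_⟩
        rw [hPcoe _ hα', hPcoe _ hα, principalSeries_inv]
  have hcardA : 2 * A.card = q - 2 := by
    have h := Finset.card_eq_sum_card_image P (Finset.univ.erase (1 : MulChar F ℂ))
    rw [Finset.card_erase_of_mem (Finset.mem_univ _), Finset.card_univ, card_mulChar] at h
    rw [Finset.sum_congr rfl (g := fun _ => 2) ?_, Finset.sum_const, smul_eq_mul] at h
    · change _ = A.card * 2 at h
      omega
    · intro χ hχ
      obtain ⟨α, hα, rfl⟩ := Finset.mem_image.1 hχ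
      have hα1 := Finset.ne_of_mem_erase hα
      rw [hfib α hα1, Finset.card_pair]
      intro h
      exact hα1 (mulChar_eq_one_of_sq (by nth_rewrite 2 [h]; exact mul_inv_cancel α))
  -- the remaining characters
  let D : Finset (IrrCharacter (SL(2, F))) := Finset.univ \ insert one (insert st A)
  have hdvdD : ∀ χ ∈ D, q - 1 ∣ charDegree (χ : SL(2, F) → ℂ) := by
    intro χ hχ
    simp only [D, Finset.mem_sdiff, Finset.mem_univ, true_and, Finset.mem_insert, not_or] at hχ
    refine dvd_of_cuspidal χ.2 fun α => ?_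
    by_cases hα : α = 1
    · subst hα
      have hps : principalSeries (1 : MulChar F ℂ) = (st : SL(2, F) → ℂ) + (one : SL(2, F) → ℂ) := by
        funext g
        simp [st, one, steinberg, trivIrr_apply]
      rw [hps, classInner_add_right, classInner_irrCharacter, classInner_irrCharacter,
        if_neg hχ.2.1, if_neg hχ.1, add_zero]
    · rw [← hPcoe α hα, classInner_irrCharacter, if_neg]
      exact fun h => hχ.2.2 (Finset.mem_image.2 ⟨α, Finset.mem_erase.2 ⟨hα, Finset.mem_univ _⟩, h.symm⟩)
  have hins : Disjoint D (insert one (insert st A)) := Finset.sdiff_disjoint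
  have huniv : D ∪ insert one (insert st A) = Finset.univ :=
    Finset.sdiff_union_of_subset (Finset.subset_univ _)
  have hnum : q + 1 ≤ D.card + (A.card + 2) := by
    have h := Finset.card_union_of_disjoint hins
    rw [huniv, Finset.card_univ, Finset.card_insert_of_notMem (by simp [h1s, h1A]),
      Finset.card_insert_of_notMem hsA, ← Nat.card_eq_fintype_card, card_irrCharacter] at h
    have := card_add_one_le_classes (F := F)
    omega
  have hsumsq : ∑ χ ∈ D, (charDegree (χ : SL(2, F) → ℂ)) ^ 2 +
      (A.card * (q + 1) ^ 2 + q ^ 2 + 1) = q * (q ^ 2 - 1) := by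
    have h := sum_degree_sq (G := SL(2, F))
    rw [Finset.sum_congr rfl (fun χ _ => by
      rw [← charDegree_cast (IsIrrCharacter.isCharacter χ.2), ← Nat.cast_pow]), ← Nat.cast_sum,
      Nat.cast_inj, ← huniv, Finset.sum_union hins, Finset.sum_insert (by simp [h1s, h1A]),
      Finset.sum_insert hsA, hdeg1, hdegst, Finset.sum_congr (s₁ := A) rfl (g := fun _ => (q + 1) ^ 2) (fun χ hχ => by rw [hdegA χ hχ]),
      Finset.sum_const, smul_eq_mul, SL2.card_SL, Nat.card_eq_fintype_card, ← hq] at h
    omega
  have hb : ∀ χ ∈ D, 1 ≤ charDegree (χ : SL(2, F) → ℂ) / (q - 1) := fun χ hχ =>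
    Nat.div_pos (Nat.le_of_dvd (charDegree_pos χ.2) (hdvdD χ hχ)) (by omega)
  set S := ∑ χ ∈ D, (charDegree (χ : SL(2, F) → ℂ) / (q - 1)) ^ 2 with hS
  have hDsum : ∑ χ ∈ D, (charDegree (χ : SL(2, F) → ℂ)) ^ 2 = (q - 1) ^ 2 * S := by
    rw [hS, Finset.mul_sum]
    refine Finset.sum_congr rfl fun χ hχ => ?_
    rw [← mul_pow, Nat.mul_div_cancel' (hdvdD χ hχ)]
  rw [hDsum] at hsumsq
  have h2S : 2 * S = q := by
    have e1 : (2 * A.card : ℤ) = (q : ℤ) - 2 := by omega
    have e2 : ((q - 1 : ℕ) : ℤ) = (q : ℤ) - 1 := by omega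
    have e3 : ((q ^ 2 - 1 : ℕ) : ℤ) = (q : ℤ) ^ 2 - 1 := by
      rw [Nat.cast_sub (Nat.one_le_pow _ _ (by omega))]
      simp
    have e := congrArg (fun n : ℕ => (n : ℤ)) hsumsq
    simp only [Nat.cast_add, Nat.cast_mul, Nat.cast_pow, Nat.cast_one, e2, e3] at e
    have hz : ((q : ℤ) - 1) ^ 2 * (2 * (S : ℤ) - q) = 0 := by
      linear_combination 2 * e - ((q : ℤ) + 1) ^ 2 * e1
    rcases mul_eq_zero.1 hz with h | h
    · have : ((q : ℤ) - 1) = 0 := (pow_eq_zero_iff two_ne_zero).1 h
      omega
    · omega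
  have hcardD : D.card ≤ S := by
    rw [Finset.card_eq_sum_ones, hS]
    exact Finset.sum_le_sum fun χ hχ => Nat.one_le_pow _ _ (hb χ hχ)
  have hdegD : ∀ χ ∈ D, charDegree (χ : SL(2, F) → ℂ) = q - 1 := by
    intro χ hχ
    have hle : ∀ ψ ∈ D, 1 ≤ (charDegree (ψ : SL(2, F) → ℂ) / (q - 1)) ^ 2 :=
      fun ψ hψ => Nat.one_le_pow _ _ (hb ψ hψ)
    have heq : ∑ ψ ∈ D, 1 = ∑ ψ ∈ D, (charDegree (ψ : SL(2, F) → ℂ) / (q - 1)) ^ 2 := by
      rw [← Finset.card_eq_sum_ones, ← hS]
      omega
    have h := (Finset.sum_eq_sum_iff_of_le hle).1 heq χ hχ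
    have h1 : charDegree (χ : SL(2, F) → ℂ) / (q - 1) = 1 :=
      (pow_eq_one_iff.1 h.symm).resolve_right two_ne_zero
    have := Nat.mul_div_cancel' (hdvdD χ hχ)
    rw [h1, mul_one] at this
    exact this.symm
  ext d
  simp only [charDegrees, Set.mem_ofPred_eq, Set.mem_insert_iff, Set.mem_singleton_iff]
  constructor
  · rintro ⟨χ, rfl⟩
    have hχ : χ ∈ D ∪ insert one (insert st A) := huniv ▸ Finset.mem_univ χ
    simp only [Finset.mem_union, Finset.mem_insert] at hχ
    rcases hχ with h | rfl | rfl | h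
    · exact Or.inr (Or.inl (hdegD χ h))
    · exact Or.inl hdeg1
    · exact Or.inr (Or.inr (Or.inl hdegst))
    · exact Or.inr (Or.inr (Or.inr (hdegA χ h)))
  · rintro (rfl | rfl | rfl | rfl)
    · exact ⟨one, hdeg1⟩
    · obtain ⟨χ, hχ⟩ := Finset.card_pos.1 (show 0 < D.card by omega)
      exact ⟨χ, hdegD χ hχ⟩
    · exact ⟨st, hdegst⟩
    · obtain ⟨χ, hχ⟩ := Finset.card_pos.1 (show 0 < A.card by omega)
      exact ⟨χ, hdegA χ hχ⟩

end SL2

end CfsgLib.Correspondences
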