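import Mathlib
import Cfsg.Agent.Lib.CharTheory.Convolution
import Cfsg.Agent.Lib.BrauerCharacters.Consequences

/-!
Block orthogonality between a normal subgroup and elements of `p`-singular image.
-/

set_option autoImplicit false
set_option linter.style.haveILetI false

namespace CfsgLib.Correspondences

open Cfsg CfsgLib.CharTheory
open scoped ComplexConjugate

variable {G : Type*} [Group G] [Fintype G] {p : ℕ} [Fact p.Prime] {M : Ideal AlgInt}

theorem sum_block_degree_mul_eq_zero (hM : IsPModular p M) {B : Set (IrrCharacter G)}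
    (hB : IsPBlock M B) {w : G} (hw : p ∣ orderOf w) :
    ∑ᶠ χ ∈ B, (χ : G → ℂ) 1 * (χ : G → ℂ) w = 0 := by
  haveI := CfsgLib.Blocks.isPrime_of_isPModular hM
  have h := CfsgLib.BrauerCharacters.weakOrth hM hB 1 w⁻¹
    (by rw [orderOf_one]; exact (Fact.out : p.Prime).not_dvd_one) (by rwa [orderOf_inv])
  refine Eq.trans (finsum_mem_congr rfl fun χ _ => ?_) h
  rw [IsIrrCharacter.inv χ.2, Complex.conj_conj]

/-- For `n` in the normal subgroup `N` and `u` with `p`-singular image modulo `N`, the block sum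
`∑ conj χ(n) χ(u)` vanishes. -/
theorem sum_block_conj_mul_eq_zero (hM : IsPModular p M) {B : Set (IrrCharacter G)}
    (hB : IsPBlock M B) (N : Subgroup G) [N.Normal] {n u : G} (hn : n ∈ N)
    (hu : p ∣ orderOf (u : G ⧸ N)) :
    ∑ᶠ χ ∈ B, conj ((χ : G → ℂ) n) * (χ : G → ℂ) u = 0 := by
  classical
  haveI := Fintype.ofFinite (IrrCharacter G)
  have e : ∀ χ : IrrCharacter G, conj ((χ : G → ℂ) n) * (χ : G → ℂ) u =
      (Nat.card G : ℂ)⁻¹ * ∑ x : G, (χ : G → ℂ) 1 * (χ : G → ℂ) (x * n⁻¹ * x⁻¹ * u) := by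
    intro χ
    have h0 := apply_one_ne_zero_of_isIrr χ.2
    rw [← Finset.mul_sum, IsIrrCharacter.sum_conj_mul χ.2, ← IsIrrCharacter.inv χ.2]
    have hG : (Nat.card G : ℂ) ≠ 0 := Nat.cast_ne_zero.2 Nat.card_pos.ne'
    field_simp
  rw [finsum_mem_congr rfl fun χ _ => e χ]
  rw [finsum_mem_eq_finite_toFinset_sum _ (Set.toFinite B), ← Finset.mul_sum, Finset.sum_comm]
  refine mul_eq_zero_of_right _ (Finset.sum_eq_zero fun x _ => ?_)
  rw [← finsum_mem_eq_finite_toFinset_sum _ (Set.toFinite B)]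
  refine sum_block_degree_mul_eq_zero hM hB (hu.trans ?_)
  have : ((x * n⁻¹ * x⁻¹ * u : G) : G ⧸ N) = (u : G ⧸ N) := by
    rw [QuotientGroup.mk_mul]
    have hm : x * n⁻¹ * x⁻¹ ∈ N := Subgroup.Normal.conj_mem inferInstance _ (N.inv_mem hn) x
    rw [(QuotientGroup.eq_one_iff _).2 hm, one_mul]
  rw [← this]
  exact orderOf_map_dvd (QuotientGroup.mk' N) _

end CfsgLib.Correspondences
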