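import Mathlib
import Cfsg.Agent.Lib.RealChar.Extension
import Cfsg.Agent.Lib.CharTheory.Linear
import Cfsg.Agent.Lib.Correspondences.CharKer

/-!
An invariant irreducible character of a normal subgroup extends when its degree and the number of
linear characters of the subgroup are prime to the index.
-/

set_option autoImplicit false
set_option linter.style.haveILetI false

namespace CfsgLib.Correspondences

open Cfsg CfsgLib.RealChar

variable {G : Type*} [Group G] [Finite G]

theorem exists_extension_of_coprime_linear (N : Subgroup G) [N.Normal] {θ : N → ℂ}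
    (hθ : IsIrrCharacter N θ)
    (hinv : ∀ (g : G) (n : N), θ (MulAut.conjNormal g n) = θ n)
    (hcop : Nat.Coprime (charDegree θ * Nat.card (N →* ℂˣ)) N.index) :
    ∃ χ : G → ℂ, IsIrrCharacter G χ ∧ ∀ n : N, χ n = θ n := by
  obtain ⟨d, ρ, hρ, rfl⟩ := hθ
  haveI := hρ
  have hd : charDegree ρ.character = d := by simp [charDegree]
  rw [hd] at hcop
  haveI : Finite (N →* ℂˣ) := Finite.of_equiv _ CfsgLib.CharTheory.linearEquivHom
  set o := Nat.card (N →* ℂˣ) with ho
  -- the determinant
  let D : interGroup N ρ →* ℂˣ :=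
    (Units.map (LinearMap.det : Module.End ℂ (Fin d → ℂ) →* ℂ)).comp (interSnd N ρ)
  have hDN : ∀ n, D (interIncl N ρ n) ^ o = 1 := by
    intro n
    have h := pow_card_eq_one' (G := N →* ℂˣ) (x := D.comp (interIncl N ρ))
    exact DFunLike.congr_fun h n
  have hDs : ∀ z, D (interScalar N ρ z) = z ^ d := by
    intro z
    refine Units.ext ?_
    show LinearMap.det (algebraMap ℂ (Module.End ℂ (Fin d → ℂ)) (z : ℂ)) = _
    rw [Algebra.algebraMap_eq_smul_one, LinearMap.det_smul, map_one, mul_one,
      Module.finrank_fintype_fun_eq_card, Fintype.card_fin, Units.val_pow_eq_pow_val]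
  -- the transfer
  obtain ⟨φ, hφN, hφs⟩ := exists_hom_pow_index hinv N le_rfl ρ (fun n => rfl)
  obtain ⟨u, v, huv⟩ : ∃ u v : ℤ, (d * o : ℕ) * u + (N.index : ℕ) * v = 1 := by
    refine ⟨Nat.gcdA (d * o) N.index, Nat.gcdB (d * o) N.index, ?_⟩
    rw [← Nat.gcd_eq_gcd_ab, hcop.gcd_eq_one, Nat.cast_one]
  obtain ⟨σ, hσ⟩ := exists_extension_of_hom (N := N) (ρ := ρ) hinv ((D ^ o) ^ u * φ ^ v)
    (fun n => by simp [hDN, hφN])
    (fun z => by
      simp only [MonoidHom.mul_apply, MonoidHom.zpow_apply, MonoidHom.pow_apply, hDs, hφs,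
        ← zpow_natCast, ← zpow_mul, ← zpow_add]
      rw [← Nat.cast_mul, huv, zpow_one])
  exact ⟨_, isIrrCharacter_of_extension ρ σ hσ⟩

end CfsgLib.Correspondences
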