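import Mathlib
import Cfsg.Agent.Lib.Correspondences.DetExtension
import Cfsg.Agent.Lib.Correspondences.PrincipalBlock
import Cfsg.Agent.Lib.Correspondences.BlockOrth
import Cfsg.Agent.Lib.CharTheory.Linear

/-!
Extending characters of the principal block through a `p`-power index, and the groups all of whose
`p'`-degree characters in the principal block are linear.
-/

set_option autoImplicit false
set_option linter.style.haveILetI false
set_option linter.unusedSectionVars false

namespace CfsgLib.Correspondences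

open Cfsg CfsgLib.CharTheory CfsgLib.Blocks

variable {G : Type*} [Group G] [Finite G] {p : ℕ} [hp : Fact p.Prime] {M : Ideal AlgInt}

/-- Congruence between the values at an element and at its `p'`-part. -/
theorem exists_pRegular_pow_congr (hM : IsPModular p M) {χ : G → ℂ} (hχ : IsCharacter G χ) (g : G) :
    ∃ m : ℕ, ¬ p ∣ orderOf (g ^ m) ∧ MemLocalIdeal M (χ g - χ (g ^ m)) := by
  classical
  haveI := isPrime_of_isPModular hM
  set a := (orderOf g).factorization p
  set n' := orderOf g / p ^ a with hn'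
  have hn : p ^ a * n' = orderOf g := Nat.ordProj_mul_ordCompl_eq_self _ _
  have hn'p : ¬ p ∣ n' := Nat.not_dvd_ordCompl hp.out (orderOf_pos g).ne'
  obtain ⟨m, hm1, hm2⟩ := Nat.chineseRemainder
    (((hp.out.coprime_iff_not_dvd).2 hn'p).pow_left a) 0 1
  refine ⟨m, fun h => hn'p (h.trans ?_), ?_⟩
  · obtain ⟨t, ht⟩ := Nat.modEq_zero_iff_dvd.1 hm1
    refine orderOf_dvd_of_pow_eq_one ?_
    rw [← pow_mul, ht, mul_assoc, mul_comm t n', ← mul_assoc, hn, pow_mul, pow_orderOf_eq_one,
      one_pow]
  · obtain ⟨n, ρ, rfl⟩ := hχ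
    obtain ⟨ι, hι, b, μ, -, hμ, -, hchar⟩ := exists_eigenbasis ρ g
    have h1 := hchar 1
    simp only [pow_one] at h1
    rw [h1, hchar m, ← Finset.sum_sub_distrib]
    refine memLocalIdeal_sum fun i _ => ?_
    have hint : IsIntegral ℤ (μ i) :=
      ⟨Polynomial.X ^ orderOf g - 1, Polynomial.monic_X_pow_sub_C 1 (orderOf_pos g).ne', by simp [hμ i]⟩
    have hμne : μ i ≠ 0 := fun e => by
      have := hμ i; rw [e, zero_pow (orderOf_pos g).ne'] at this; exact zero_ne_one this
    -- `μ ^ m / μ` has `p`-power order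
    have hz : (μ i ^ m * (μ i)⁻¹) ^ p ^ a = 1 := by
      rw [mul_pow, inv_pow, ← pow_mul, mul_inv_eq_one₀ (pow_ne_zero _ hμne),
        ← pow_mod_orderOf (μ i) (m * p ^ a), ← pow_mod_orderOf (μ i) (p ^ a)]
      congr 1
      have h3 : m * p ^ a ≡ p ^ a [MOD orderOf g] := by
        rw [← hn, mul_comm (p ^ a) n']
        simpa using hm2.mul_right' (p ^ a)
      exact h3.of_dvd (orderOf_dvd_of_pow_eq_one (hμ i))
    have e : μ i - μ i ^ m = μ i * (1 - μ i ^ m * (μ i)⁻¹) := by field_simp
    rw [e]
    refine memLocalIdeal_mul_left (memLocalRing_of_isIntegral hint) ?_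
    rw [memLocalIdeal_sub_comm]
    exact memLocalIdeal_sub_one_of_pow_prime_pow hM hz

theorem relIndex_dvd_index_right (C K : Subgroup G) [K.Normal] : C.relIndex K ∣ C.index := by
  have e : ∀ {A B : Subgroup G}, A ≤ B → Nat.card A * A.relIndex B = Nat.card B := fun {A B} h => by
    rw [← Nat.card_congr (Subgroup.subgroupOfEquivOfLe h).toEquiv]
    exact Subgroup.card_mul_index _
  have e1 := e (le_sup_right : K ≤ C ⊔ K)
  have e2 := e (inf_le_right : K ⊓ C ≤ C)
  have e3 := e (inf_le_left : K ⊓ C ≤ K)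
  have e4 := e (le_sup_left : C ≤ C ⊔ K)
  rw [Subgroup.inf_relIndex_right] at e2
  rw [inf_comm K C, Subgroup.inf_relIndex_right, inf_comm C K] at e3
  rw [Subgroup.relIndex_sup_right] at e1
  have h : C.relIndex (C ⊔ K) = C.relIndex K := by
    refine Nat.eq_of_mul_eq_mul_left (Nat.card_pos (α := C)) ?_
    rw [e4, ← e1, ← e2, ← e3]
    ring
  exact h ▸ Subgroup.relIndex_dvd_index_of_le le_sup_left

theorem index_centralizer_conjNormal (K : Subgroup G) [K.Normal] (x : G) (k : K) :
    (Subgroup.centralizer ({MulAut.conjNormal x k} : Set K)).index =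
      (Subgroup.centralizer ({k} : Set K)).index := by
  haveI := Fintype.ofFinite K
  rw [← CfsgLib.CharTheory.card_isConj, ← CfsgLib.CharTheory.card_isConj]
  refine (Nat.card_congr (Equiv.subtypeEquiv (MulAut.conjNormal (H := K) x).toEquiv fun y => ?_)).symm
  constructor
  · exact fun h => (MulAut.conjNormal (H := K) x).toMonoidHom.map_isConj h
  · intro h
    have h2 := (MulAut.conjNormal (H := K) x).symm.toMonoidHom.map_isConj h
    simp only [MulEquiv.coe_toMonoidHom, MulEquiv.toEquiv_eq_coe, EquivLike.coe_coe,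
      MulEquiv.symm_apply_apply] at h2
    exact h2

theorem principalBlock_conjNormal (K : Subgroup G) [K.Normal] (x : G) {θ : IrrCharacter K}
    (hθ : θ ∈ principalBlock M K) {η : IrrCharacter K}
    (hη : ∀ k, (η : K → ℂ) k = (θ : K → ℂ) (MulAut.conjNormal x k)) : η ∈ principalBlock M K := by
  intro k
  have h := hθ (MulAut.conjNormal x k)
  rw [centralChar_one_eq] at h ⊢
  simp only [centralChar, index_centralizer_conjNormal, hη, map_one] at h ⊢
  exact h

omit hp in
theorem mem_principalBlock_iff_sub (_hM : IsPModular p M) {H : Type*} [Group H] [Finite H]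
    (θ : IrrCharacter H) :
    θ ∈ principalBlock M H ↔ ∀ h : H, MemLocalIdeal M
      (((Subgroup.centralizer ({h} : Set H)).index : ℂ) * (1 - (θ : H → ℂ) h / (θ : H → ℂ) 1)) := by
  refine forall_congr' fun h => ?_
  rw [centralChar_one_eq, centralChar, mul_sub, mul_one, mul_div_assoc]

/-- An extension of a `p'`-degree character of the principal block through a `p`-power index is in
the principal block. -/
theorem mem_principalBlock_of_extension (hM : IsPModular p M) (K : Subgroup G) [K.Normal]
    (hK : ∀ g : G, ¬ p ∣ orderOf g → g ∈ K) {θ : IrrCharacter K} (hθ : θ ∈ principalBlock M K)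
    (hdeg : ¬ p ∣ charDegree (θ : K → ℂ)) {χ : IrrCharacter G}
    (hext : ∀ k : K, (χ : G → ℂ) k = (θ : K → ℂ) k) : χ ∈ principalBlock M G := by
  haveI := isPrime_of_isPModular hM
  have hone : (χ : G → ℂ) 1 = (θ : K → ℂ) 1 := hext 1
  have hθc := IsIrrCharacter.isCharacter θ.2
  have hinv : MemLocalRing M ((θ : K → ℂ) 1)⁻¹ := by
    rw [← charDegree_cast hθc]; exact memLocalRing_inv_natCast hM hdeg
  have h1 : (θ : K → ℂ) 1 ≠ 0 := apply_one_ne_zero_of_isIrr θ.2
  rw [mem_principalBlock_iff_sub hM]
  intro g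
  set C := Subgroup.centralizer ({g} : Set G) with hC
  have hfac : ∀ (i z : ℂ), i * (1 - z / (θ : K → ℂ) 1) = i * ((θ : K → ℂ) 1)⁻¹ * ((θ : K → ℂ) 1 - z) :=
    fun i z => by field_simp
  rw [hone, hfac]
  by_cases hdvd : p ∣ C.index
  · refine memLocalIdeal_mul_right (memLocalIdeal_mul_right
      ((memLocalIdeal_natCast_iff hM _).2 hdvd) hinv) ?_
    exact memLocalRing_of_isIntegral ((IsCharacter.isIntegral hθc 1).sub
      (IsCharacter.isIntegral (IsIrrCharacter.isCharacter χ.2) g))
  refine memLocalIdeal_mul_left (memLocalRing_mul (memLocalRing_natCast _) hinv) ?_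
  obtain ⟨m, hm, hcong⟩ := exists_pRegular_pow_congr hM (IsIrrCharacter.isCharacter χ.2) g
  have hmK : g ^ m ∈ K := hK _ hm
  set k : K := ⟨g ^ m, hmK⟩
  have hidx : ¬ p ∣ (Subgroup.centralizer ({k} : Set K)).index := by
    intro h
    refine hdvd (h.trans ?_)
    have hle : C.subgroupOf K ≤ Subgroup.centralizer ({k} : Set K) := by
      intro y hy
      rw [Subgroup.mem_centralizer_singleton_iff]
      exact Subtype.ext (Commute.pow_right (Subgroup.mem_centralizer_singleton_iff.1 hy) m).eq
    exact (Subgroup.index_dvd_of_le hle).trans (relIndex_dvd_index_right C K)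
  have hk := (mem_principalBlock_iff_sub hM θ).1 hθ k
  rw [hfac, memLocalIdeal_mul_iff (memLocalRing_mul (memLocalRing_natCast _) hinv)
    (memLocalRing_of_isIntegral ((IsCharacter.isIntegral hθc 1).sub
      (IsCharacter.isIntegral hθc k)))] at hk
  have hk2 : MemLocalIdeal M ((θ : K → ℂ) 1 - (θ : K → ℂ) k) := by
    refine hk.resolve_left fun h => ?_
    have h3 := memLocalIdeal_mul_right h (memLocalRing_of_isIntegral (IsCharacter.isIntegral hθc 1))
    rw [mul_assoc, inv_mul_cancel₀ h1, mul_one] at h3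
    exact hidx ((memLocalIdeal_natCast_iff hM _).1 h3)
  rw [← hext k] at hk2
  have := memLocalIdeal_sub hk2 hcong
  rwa [sub_sub, show (χ : G → ℂ) (k : G) + ((χ : G → ℂ) g - (χ : G → ℂ) (g ^ m)) = (χ : G → ℂ) g by
    show (χ : G → ℂ) (g ^ m) + _ = _; ring] at this

end CfsgLib.Correspondences
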