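import Mathlib
import Cfsg.Agent.Lib.CharTheory.Orthogonality
import Cfsg.Agent.Lib.Correspondences.CharKer

/-!
Frobenius' formulas for character sums over commutators.
-/

set_option autoImplicit false
set_option linter.style.haveILetI false

namespace CfsgLib.Correspondences

open Cfsg CfsgLib.CharTheory
open scoped ComplexConjugate

variable {G : Type*} [Group G] [Fintype G]

theorem sum_conj_mul_eq {χ : G → ℂ} (hχ : IsIrrCharacter G χ) (a b : G) :
    ∑ x : G, χ (x * a * x⁻¹ * b) = (Nat.card G : ℂ) / χ 1 * (χ a * χ b) := by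
  have h1 := apply_one_ne_zero_of_isIrr hχ
  obtain ⟨n, ρ, hρ, rfl⟩ := hχ
  set T : (Fin n → ℂ) →ₗ[ℂ] (Fin n → ℂ) := ∑ x : G, ρ (x * a * x⁻¹) with hT
  have hcomm : ∀ y, T ∘ₗ ρ y = ρ y ∘ₗ T := by
    intro y
    show T * ρ y = ρ y * T
    rw [hT, Finset.sum_mul, Finset.mul_sum]
    refine Fintype.sum_equiv (Equiv.mulLeft y⁻¹) _ _ fun x => ?_
    rw [Equiv.coe_mulLeft, ← map_mul, ← map_mul]
    congr 1
    group
  obtain ⟨c, hc⟩ := exists_smul_of_commute ρ T hcomm
  have htr : c * ρ.character 1 = (Nat.card G : ℂ) * ρ.character a := by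
    have h2 := congrArg (LinearMap.trace ℂ (Fin n → ℂ)) hc
    rw [hT, map_sum, map_smul, LinearMap.trace_id] at h2
    have h3 : ∀ x, LinearMap.trace ℂ (Fin n → ℂ) (ρ (x * a * x⁻¹)) = ρ.character a :=
      fun x => ρ.char_conj a x
    simp only [h3, Finset.sum_const, Finset.card_univ, nsmul_eq_mul, smul_eq_mul] at h2
    rw [Representation.char_one, ← h2, Nat.card_eq_fintype_card]
  calc ∑ x : G, ρ.character (x * a * x⁻¹ * b) = LinearMap.trace ℂ _ (T * ρ b) := by
        rw [hT, Finset.sum_mul, map_sum]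
        exact Finset.sum_congr rfl fun x _ => by simp [Representation.character]
    _ = c * ρ.character b := by
        rw [hc, smul_mul_assoc, map_smul, ← Module.End.one_eq_id, one_mul]; rfl
    _ = _ := by field_simp; linear_combination ρ.character b * htr

theorem sum_mul_apply_inv_mul {χ : G → ℂ} (hχ : IsIrrCharacter G χ) (u : G) :
    ∑ b : G, χ b * χ (b⁻¹ * u) = (Nat.card G : ℂ) / χ 1 * χ u := by
  have h1 := apply_one_ne_zero_of_isIrr hχ
  have horth : ∑ b : G, χ b * χ b⁻¹ = (Nat.card G : ℂ) := by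
    have h := classInner_self_of_isIrr hχ
    rw [classInner_eq_sum_inv (IsIrrCharacter.isCharacter hχ)] at h
    have h0 : (Nat.card G : ℂ) ≠ 0 := Nat.cast_ne_zero.2 Nat.card_pos.ne'
    calc ∑ b : G, χ b * χ b⁻¹
        = (Nat.card G : ℂ) * ((Nat.card G : ℂ)⁻¹ * ∑ b : G, χ b * χ b⁻¹) := by field_simp
      _ = _ := by rw [h, mul_one]
  obtain ⟨n, ρ, hρ, rfl⟩ := hχ
  set T : (Fin n → ℂ) →ₗ[ℂ] (Fin n → ℂ) := ∑ b : G, ρ.character b • ρ b⁻¹ with hT
  have hcomm : ∀ y, T ∘ₗ ρ y = ρ y ∘ₗ T := by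
    intro y
    show T * ρ y = ρ y * T
    rw [hT, Finset.sum_mul, Finset.mul_sum]
    refine Fintype.sum_equiv (MulAut.conj y⁻¹).toEquiv _ _ fun b => ?_
    simp only [MulEquiv.toEquiv_eq_coe, MulEquiv.coe_toEquiv, MulAut.conj_apply]
    rw [ρ.char_conj b y⁻¹, smul_mul_assoc, mul_smul_comm, ← map_mul, ← map_mul]
    congr 2
    group
  obtain ⟨c, hc⟩ := exists_smul_of_commute ρ T hcomm
  have htr : c * ρ.character 1 = (Nat.card G : ℂ) := by
    have h2 := congrArg (LinearMap.trace ℂ (Fin n → ℂ)) hc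
    rw [hT, map_sum, map_smul, LinearMap.trace_id] at h2
    rw [Representation.char_one, ← smul_eq_mul, ← h2, ← horth]
    exact Finset.sum_congr rfl fun b _ => by rw [map_smul, smul_eq_mul]; rfl
  calc ∑ b : G, ρ.character b * ρ.character (b⁻¹ * u) = LinearMap.trace ℂ _ (T * ρ u) := by
        rw [hT, Finset.sum_mul, map_sum]
        exact Finset.sum_congr rfl fun b _ => by
          rw [smul_mul_assoc, map_smul, smul_eq_mul, ← map_mul]; rfl
    _ = c * ρ.character u := by
        rw [hc, smul_mul_assoc, map_smul, ← Module.End.one_eq_id, one_mul]; rfl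
    _ = _ := by field_simp; linear_combination ρ.character u * htr

theorem sum_commutator_mul {χ : G → ℂ} (hχ : IsIrrCharacter G χ) (u : G) :
    ∑ a : G, ∑ b : G, χ (a * b * a⁻¹ * b⁻¹ * u) = ((Nat.card G : ℂ) / χ 1) ^ 2 * χ u := by
  rw [Finset.sum_comm]
  have : ∀ b : G, ∑ a : G, χ (a * b * a⁻¹ * b⁻¹ * u) =
      (Nat.card G : ℂ) / χ 1 * (χ b * χ (b⁻¹ * u)) := fun b => by
    rw [← sum_conj_mul_eq hχ b (b⁻¹ * u)]
    exact Finset.sum_congr rfl fun a _ => by rw [mul_assoc (a * b * a⁻¹) b⁻¹ u]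
  rw [Finset.sum_congr rfl (fun b _ => this b), ← Finset.mul_sum, sum_mul_apply_inv_mul hχ]
  ring

/-- Expansion of the fibre counting function of a conjugation-equivariant map. -/
theorem card_fiber_eq_sum [Fintype (IrrCharacter G)] {α : Type*} [Fintype α] (φ : α → G)
    (act : G → α ≃ α) (hact : ∀ c a, φ (act c a) = c * φ a * c⁻¹) (z : G) :
    (Nat.card {a : α // φ a = z} : ℂ) =
      (Nat.card G : ℂ)⁻¹ * ∑ χ : IrrCharacter G,
        (∑ a, conj ((χ : G → ℂ) (φ a))) * (χ : G → ℂ) z := by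
  classical
  let f : G → ℂ := fun y => (Nat.card {a : α // φ a = y} : ℂ)
  have hf : IsClassFunction G f := fun y c => by
    show (Nat.card _ : ℂ) = (Nat.card _ : ℂ)
    congr 1
    refine (Nat.card_congr ((act c).subtypeEquiv fun a => ?_)).symm
    rw [hact]
    simp
  have h := congrFun (eq_sum_classInner hf) z
  simp only [Finset.sum_apply, Pi.smul_apply, smul_eq_mul] at h
  show f z = _
  rw [h, Finset.mul_sum]
  refine Finset.sum_congr rfl fun χ _ => ?_
  rw [Cfsg.classInner, mul_assoc]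
  congr 2
  rw [← Finset.sum_fiberwise Finset.univ φ (fun a => conj ((χ : G → ℂ) (φ a)))]
  refine Finset.sum_congr rfl fun y _ => ?_
  have hconst : ∀ a ∈ Finset.univ.filter (fun a => φ a = y),
      conj ((χ : G → ℂ) (φ a)) = conj ((χ : G → ℂ) y) := fun a ha => by
    rw [(Finset.mem_filter.1 ha).2]
  rw [Finset.sum_congr rfl hconst, Finset.sum_const, nsmul_eq_mul]
  simp [f, Nat.card_eq_fintype_card, Fintype.card_subtype]

end CfsgLib.Correspondences
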