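import Mathlib
import Cfsg.Agent.Lib.CharDegreesTheory.GlaubermanSubgroup
import Cfsg.Agent.Lib.CharDegreesTheory.IrrComp
import Cfsg.Agent.Lib.CharTheory.Orthogonality
import Cfsg.Agent.Lib.CharTheory.Inflation
import Cfsg.Agent.Lib.Subnormal.Cover

/-!
An element centralizing `S` and fixing every `S`-invariant irreducible character of `K`
centralizes `C_K(S)`.
-/

set_option autoImplicit false
set_option linter.style.haveILetI false

namespace CfsgLib.Correspondences

open Cfsg CfsgLib.CharTheory CfsgLib.CharDegreesTheory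

universe u
variable {L : Type u} [Group L] [Finite L] {p q : ℕ}

theorem commute_fixedPoints_of_fix_invariant [Fact p.Prime] [Fact q.Prime] (K S : Subgroup L)
    [K.Normal] (hS : IsPGroup p S) (hKp : ¬ p ∣ Nat.card K) (hKq : ¬ q ∣ Nat.card K) {x : L}
    (hxS : ∀ s ∈ S, s * x = x * s) (hxq : ∃ k, x ^ q ^ k = 1)
    (hfix : ∀ θ : IrrCharacter K,
      (∀ s ∈ S, ∀ n : K, (θ : K → ℂ) (MulAut.conjNormal s n) = (θ : K → ℂ) n) →
      ∀ n : K, (θ : K → ℂ) (MulAut.conjNormal x n) = (θ : K → ℂ) n) :
    ∀ c ∈ K ⊓ Subgroup.centralizer (S : Set L), x * c = c * x := by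
  classical
  set C := K ⊓ Subgroup.centralizer (S : Set L) with hC
  have hnorm : ∀ s ∈ S, ∀ g ∈ K, s * g * s⁻¹ ∈ K := fun s _ g hg =>
    (inferInstance : K.Normal).conj_mem g hg s
  have hset := coprimePSetup_conjRes K S C hnorm hC inf_le_left hS hKp
  have hxC : ∀ c, c ∈ C ↔ MulAut.conj x c ∈ C := by
    intro c
    rw [MulAut.conj_apply, hC, Subgroup.mem_inf, Subgroup.mem_inf, Subgroup.mem_centralizer_iff,
      Subgroup.mem_centralizer_iff]
    refine and_congr ⟨fun h => (inferInstance : K.Normal).conj_mem c h x, fun h => ?_⟩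
      (forall₂_congr fun s hs => ?_)
    · simpa [mul_assoc] using (inferInstance : K.Normal).conj_mem _ h x⁻¹
    · have h1 := hxS s hs
      constructor <;> intro h
      · calc s * (x * c * x⁻¹) = (s * x) * c * x⁻¹ := by group
          _ = x * (s * c) * x⁻¹ := by rw [h1]; group
          _ = x * (c * s) * x⁻¹ := by rw [h]
          _ = x * c * x⁻¹ * (x * s) * x⁻¹ := by group
          _ = x * c * x⁻¹ * (s * x) * x⁻¹ := by rw [h1]
          _ = (x * c * x⁻¹) * s := by group
      · calc s * c = x⁻¹ * (x * s) * c := by group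
          _ = x⁻¹ * (s * (x * c * x⁻¹)) * x := by rw [← h1]; group
          _ = x⁻¹ * ((x * c * x⁻¹) * s) * x := by rw [h]
          _ = c * x⁻¹ * (s * x) := by group
          _ = c * s := by rw [h1]; group
  let f : C ≃* C :=
    { toFun := fun c => ⟨MulAut.conj x c, (hxC _).1 c.2⟩
      invFun := fun c => ⟨(MulAut.conj x).symm c, (hxC _).2 (by rw [MulEquiv.apply_symm_apply]; exact c.2)⟩
      left_inv := fun c => Subtype.ext (MulEquiv.symm_apply_apply _ _)
      right_inv := fun c => Subtype.ext (MulEquiv.apply_symm_apply _ _)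
      map_mul' := fun a b => Subtype.ext (by simp [mul_assoc]) }
  have hf : ∀ c : C, (f c : L) = x * c * x⁻¹ := fun c => rfl
  have hβfix : ∀ (β : IrrCharacter C) (c : C), (β : C → ℂ) (f c) = (β : C → ℂ) c := by
    intro β
    obtain ⟨θ, hθinv, hθm⟩ := hset.surjective β
    have hθx := hfix θ fun s hs n => by
      rw [isInvariant_conjRes_iff] at hθinv
      exact hθinv s hs n _ (by simp)
    let β' : IrrCharacter C := ⟨_, isIrrCharacter_comp_mulEquiv β.2 f⟩
    have hm : mult (Subgroup.inclusion (inf_le_left : C ≤ K)) (θ : K → ℂ) (β' : C → ℂ) =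
        mult (Subgroup.inclusion (inf_le_left : C ≤ K)) (θ : K → ℂ) (β : C → ℂ) := by
      have := mult_comp_equiv (Subgroup.inclusion (inf_le_left : C ≤ K))
        (Subgroup.inclusion (inf_le_left : C ≤ K)) (MulAut.conjNormal x : MulAut K) f
        (fun c => Subtype.ext (by simp [hf])) (θ : K → ℂ) (β : C → ℂ)
      rwa [funext hθx] at this
    have := hset.unique hθinv (β := β') (β' := β) (hm ▸ hθm) hθm
    exact fun c => congrFun (congrArg Subtype.val this) c
  let S' : Subgroup C :=
    { carrier := {c | f c = c}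
      one_mem' := map_one f
      mul_mem' := fun {a b} ha hb => by
        show f (a * b) = a * b
        rw [map_mul, show f a = a from ha, show f b = b from hb]
      inv_mem' := fun {a} ha => by
        show f a⁻¹ = a⁻¹
        rw [map_inv, show f a = a from ha] }
  suffices h : S' = ⊤ by
    intro c hc
    have h1 := congrArg Subtype.val (show f ⟨c, hc⟩ = ⟨c, hc⟩ from
      (h.symm ▸ Subgroup.mem_top _ : (⟨c, hc⟩ : C) ∈ S'))
    rw [hf] at h1
    exact mul_inv_eq_iff_eq_mul.1 h1
  refine CfsgLib.Subnormal.eq_top_of_forall_exists_conj_mem fun z => ?_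
  -- the class of `z` is stable under `f`, of order prime to `q`
  have hcl : ∀ c : C, IsConj z c → IsConj z (f c) := fun c hc =>
    hc.trans (isConj_of_forall_irr fun χ => (hβfix χ c).symm)
  let Xc := {c : C // IsConj z c}
  let σ : Xc ≃ Xc := Equiv.ofBijective (fun c => ⟨f c.1, hcl c.1 c.2⟩)
    (Finite.injective_iff_bijective.1 fun a b h => Subtype.ext (f.injective (congrArg Subtype.val h)))
  have hσpow : ∀ (n : ℕ) (c : Xc), (((σ ^ n) c).1 : L) = x ^ n * c.1 * (x ^ n)⁻¹ := by
    intro n
    induction n with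
    | zero => intro c; simp
    | succ n ih =>
      intro c
      rw [pow_succ', Equiv.Perm.mul_apply]
      show (f ((σ ^ n) c).1 : L) = _
      rw [hf, ih, pow_succ' x n]
      group
  obtain ⟨k, hk⟩ := hxq
  have hσ : σ ^ q ^ k = 1 := Equiv.ext fun c => Subtype.ext (Subtype.ext (by
    rw [hσpow, hk]; simp))
  have hPG : IsPGroup q (Subgroup.zpowers σ) := by
    obtain ⟨j, -, hj⟩ := (Nat.dvd_prime_pow (Fact.out : q.Prime)).1 (orderOf_dvd_of_pow_eq_one hσ)
    exact IsPGroup.of_card (n := j) (by rw [Nat.card_zpowers, hj])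
  have hcard : ¬ q ∣ Nat.card Xc := by
    refine fun hd => hKq (hd.trans ?_)
    rw [card_isConj z]
    exact (Subgroup.index_dvd_card _).trans (Subgroup.card_dvd_of_le inf_le_left)
  obtain ⟨c, hc⟩ := hPG.nonempty_fixed_point_of_prime_not_dvd_card Xc hcard
  have h1 : σ c = c := hc ⟨σ, Subgroup.mem_zpowers σ⟩
  obtain ⟨g, hg⟩ := isConj_iff.1 c.2
  exact ⟨g, hg ▸ (congrArg Subtype.val h1 : f c.1 = c.1)⟩

end CfsgLib.Correspondences
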