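import Mathlib

/-!
Counting the orbits of `G` stable under a commuting permutation `b`: `|G|` times their number
is the sum over `g` of the number of fixed points of `g ∘ b`.
-/

set_option autoImplicit false
set_option linter.style.haveILetI false

namespace CfsgLib.Correspondences

open MulAction

variable {G X : Type*} [Group G] [Finite G] [MulAction G X] [Finite X]

theorem card_stable_orbits_mul (b : Equiv.Perm X) (hb : ∀ (g : G) (x : X), b (g • x) = g • b x) :
    Nat.card {ω : orbitRel.Quotient G X // ∀ x, Quotient.mk'' x = ω → b x ∈ orbit G x} *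
      Nat.card G = Nat.card (Σ g : G, {x : X // g • b x = x}) := by
  classical
  haveI := Fintype.ofFinite G
  haveI := Fintype.ofFinite X
  let e : (Σ g : G, {x : X // g • b x = x}) ≃ (Σ x : X, {g : G // g • b x = x}) :=
    { toFun := fun a => ⟨a.2.1, a.1, a.2.2⟩
      invFun := fun a => ⟨a.2.1, a.1, a.2.2⟩
      left_inv := fun a => rfl
      right_inv := fun a => rfl }
  rw [Nat.card_congr e, Nat.card_sigma]
  have key : ∀ x : X, Nat.card {g : G // g • b x = x} * Nat.card (orbit G x) =
      if b x ∈ orbit G x then Nat.card G else 0 := by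
    intro x
    split
    · rename_i h
      obtain ⟨a, ha⟩ := h
      have ha' : a • x = b x := ha
      have e2 : {g : G // g • b x = x} ≃ stabilizer G x :=
        { toFun := fun g => ⟨g.1 * a, by rw [mem_stabilizer_iff, mul_smul, ha']; exact g.2⟩
          invFun := fun g => ⟨g.1 * a⁻¹, by rw [← ha', mul_smul, inv_smul_smul]; exact g.2⟩
          left_inv := fun g => Subtype.ext (by simp)
          right_inv := fun g => Subtype.ext (by simp) }
      rw [Nat.card_congr e2, mul_comm, Nat.card_congr (orbitEquivQuotientStabilizer G x)]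
      exact (Subgroup.card_eq_card_quotient_mul_card_subgroup _).symm
    · rename_i h
      have : IsEmpty {g : G // g • b x = x} :=
        ⟨fun g => h ⟨g.1⁻¹, show g.1⁻¹ • x = b x by rw [inv_smul_eq_iff]; exact g.2.symm⟩⟩
      simp
  rw [← Finset.sum_fiberwise Finset.univ (fun x : X => (Quotient.mk'' x : orbitRel.Quotient G X))]
  have hfib : ∀ ω : orbitRel.Quotient G X,
      ∑ x ∈ Finset.univ.filter (fun x : X => (Quotient.mk'' x : orbitRel.Quotient G X) = ω),
        Nat.card {g : G // g • b x = x} =
      if ∀ x, Quotient.mk'' x = ω → b x ∈ orbit G x then Nat.card G else 0 := by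
    intro ω
    induction ω using Quotient.inductionOn' with | h x₀ => ?_
    have hset : Finset.univ.filter (fun x : X => (Quotient.mk'' x : orbitRel.Quotient G X) =
        Quotient.mk'' x₀) = (orbit G x₀).toFinset := by
      ext x
      simp only [Finset.mem_filter, Finset.mem_univ, true_and, Set.mem_toFinset]
      rw [Quotient.eq'', orbitRel_apply]
    rw [hset]
    have hiff : (∀ x, (Quotient.mk'' x : orbitRel.Quotient G X) = Quotient.mk'' x₀ → b x ∈ orbit G x) ↔
        b x₀ ∈ orbit G x₀ := by
      refine ⟨fun h => h x₀ rfl, fun h x hx => ?_⟩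
      rw [Quotient.eq'', orbitRel_apply] at hx
      obtain ⟨g, rfl⟩ := hx
      rw [hb, orbit_smul]
      have hh := mem_orbit (b x₀) g
      rwa [orbit_eq_iff.2 h] at hh
    simp only [hiff]
    have hconst : ∀ x ∈ (orbit G x₀).toFinset, Nat.card {g : G // g • b x = x} =
        Nat.card {g : G // g • b x₀ = x₀} := by
      intro x hx
      rw [Set.mem_toFinset] at hx
      obtain ⟨c, rfl⟩ := hx
      refine Nat.card_congr
        { toFun := fun g => ⟨c⁻¹ * g.1 * c, ?_⟩
          invFun := fun g => ⟨c * g.1 * c⁻¹, ?_⟩
          left_inv := fun g => Subtype.ext (by simp [mul_assoc])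
          right_inv := fun g => Subtype.ext (by simp [mul_assoc]) }
      · rw [mul_smul, mul_smul, ← hb]
        rw [inv_smul_eq_iff]
        exact g.2
      · show (c * g.1 * c⁻¹) • b (c • x₀) = c • x₀
        rw [hb, mul_smul, mul_smul, inv_smul_smul, g.2]
    rw [Finset.sum_congr rfl hconst, Finset.sum_const, smul_eq_mul, Set.toFinset_card,
      ← Nat.card_eq_fintype_card, mul_comm, key]
  rw [Finset.sum_congr rfl fun ω _ => hfib ω, ← Finset.sum_filter, Finset.sum_const, smul_eq_mul,
    Nat.card_eq_fintype_card (α := {ω : orbitRel.Quotient G X // _}), Fintype.card_subtype]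

omit [Finite G] in
/-- If all orbits have odd size and `b` is an involution, the stable orbits are the orbits on the
fixed points of `b`. -/
theorem exists_fixed_of_stable (b : Equiv.Perm X) (hb : ∀ (g : G) (x : X), b (g • x) = g • b x)
    (hb2 : ∀ x, b (b x) = x) {x : X} (hodd : Odd (Nat.card (orbit G x))) (h : b x ∈ orbit G x) :
    ∃ y ∈ orbit G x, b y = y := by
  classical
  haveI := Fintype.ofFinite X
  have hmem : ∀ y ∈ orbit G x, b y ∈ orbit G x := by
    rintro _ ⟨g, rfl⟩
    show b (g • x) ∈ orbit G x
    rw [hb]
    obtain ⟨a, ha⟩ := h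
    exact ⟨g * a, show (g * a) • x = g • b x by rw [mul_smul]; exact congrArg _ ha⟩
  let f : Function.End (orbit G x) := fun y => ⟨b y.1, hmem y.1 y.2⟩
  have hf : Function.Involutive f := fun y => Subtype.ext (hb2 y.1)
  by_contra hc
  push Not at hc
  have : 2 ∣ Fintype.card (orbit G x) := by
    have h1 : (hf.toPerm f).support = Finset.univ := by
      ext y
      simp only [Equiv.Perm.mem_support, Finset.mem_univ, iff_true]
      exact fun e => hc y.1 y.2 (congrArg Subtype.val e)
    rw [← Finset.card_univ, ← h1]
    exact Equiv.Perm.two_dvd_card_support (by ext y; exact congrArg Subtype.val (hf y))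
  rw [Nat.card_eq_fintype_card] at hodd
  obtain ⟨j, hj⟩ := hodd
  omega

end CfsgLib.Correspondences
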