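import Mathlib
import Cfsg.Agent.Lib.Frobenius.BrauerPerm
import Cfsg.Agent.Lib.Correspondences.TwistedOrbits

/-!
Real classes and real characters of a normal subgroup of odd index.
-/

set_option autoImplicit false
set_option linter.style.haveILetI false
set_option linter.unusedSectionVars false

namespace CfsgLib.Correspondences

open Cfsg CfsgLib.CharTheory CfsgLib.Frobenius MulAction
open scoped ComplexConjugate

attribute [local instance 10000] Classical.propDecidable

variable {G : Type*} [Group G] [Finite G] (K : Subgroup G) [K.Normal]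

/-- The relation "conjugate in `G`" on real irreducible characters of `K`. -/
def realCharRel (θ η : {θ : IrrCharacter K // ∀ k : K, ((θ : K → ℂ) k).im = 0}) : Prop :=
  ∃ g : G, ∀ k k' : K, (k' : G) = g * (k : G) * g⁻¹ → (η.1 : K → ℂ) k' = (θ.1 : K → ℂ) k

omit [K.Normal] in
theorem mem_of_mul_self_mem_of_odd [K.Normal] (hodd : Odd K.index) {g : G} (h : g * g ∈ K) :
    g ∈ K := by
  obtain ⟨j, hj⟩ := hodd
  have h1 : g ^ K.index ∈ K := K.pow_index_mem g
  rw [hj, pow_succ, pow_mul, pow_two] at h1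
  exact (K.mul_mem_cancel_left (pow_mem h j)).1 h1

theorem isConj_real_of_odd_index (hodd : Odd K.index) {g : G} (h : IsConj g⁻¹ g) :
    ∃ hg : g ∈ K, IsConj (⟨g, hg⟩ : K)⁻¹ ⟨g, hg⟩ := by
  obtain ⟨a, ha⟩ := isConj_iff.1 h
  have hg : g ∈ K := mem_of_mul_self_mem_of_odd K hodd (by
    have hq : ((g : G ⧸ K))⁻¹ = (g : G ⧸ K) := by
      obtain ⟨j, hj⟩ := hodd
      have hpow : ∀ i : ℕ, a ^ (2 * i + 1) * g⁻¹ * (a ^ (2 * i + 1))⁻¹ = g := by
        intro i
        induction i with
        | zero => simpa using ha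
        | succ i ih =>
          have ha' : a * g * a⁻¹ = g⁻¹ := by
            calc a * g * a⁻¹ = (a * g⁻¹ * a⁻¹)⁻¹ := by group
              _ = g⁻¹ := by rw [ha]
          calc a ^ (2 * (i + 1) + 1) * g⁻¹ * (a ^ (2 * (i + 1) + 1))⁻¹
              = a * (a * (a ^ (2 * i + 1) * g⁻¹ * (a ^ (2 * i + 1))⁻¹) * a⁻¹) * a⁻¹ := by
                rw [show 2 * (i + 1) + 1 = 2 * i + 1 + 1 + 1 from by ring, pow_succ', pow_succ']
                group
            _ = g := by rw [ih, ha', ha]
      have := congrArg (QuotientGroup.mk' K) (hpow j)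
      rw [← hj, map_mul, map_mul, map_inv, map_inv,
        show QuotientGroup.mk' K (a ^ K.index) = 1 from
          (QuotientGroup.eq_one_iff _).2 (K.pow_index_mem a), one_mul, inv_one, mul_one] at this
      exact this
    rw [← QuotientGroup.eq_one_iff, QuotientGroup.mk_mul]
    nth_rewrite 1 [← hq]
    exact inv_mul_cancel _)
  refine ⟨hg, ?_⟩
  obtain ⟨j, hj⟩ := hodd
  refine isConj_iff.2 ⟨⟨a ^ K.index, K.pow_index_mem a⟩, Subtype.ext ?_⟩
  show a ^ K.index * g⁻¹ * (a ^ K.index)⁻¹ = g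
  have ha' : a * g * a⁻¹ = g⁻¹ := by
    calc a * g * a⁻¹ = (a * g⁻¹ * a⁻¹)⁻¹ := by group
      _ = g⁻¹ := by rw [ha]
  rw [hj]
  clear hj
  induction j with
  | zero => simpa using ha
  | succ i ih =>
    calc a ^ (2 * (i + 1) + 1) * g⁻¹ * (a ^ (2 * (i + 1) + 1))⁻¹
        = a * (a * (a ^ (2 * i + 1) * g⁻¹ * (a ^ (2 * i + 1))⁻¹) * a⁻¹) * a⁻¹ := by
          rw [show 2 * (i + 1) + 1 = 2 * i + 1 + 1 + 1 from by ring, pow_succ', pow_succ']
          group
      _ = g := by rw [ih, ha', ha]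

theorem sum_conj_inv_centralizer [Fintype G] (hodd : Odd K.index) (k : K) :
    ∑ g : G, (if IsConj (⟨g⁻¹ * (k : G)⁻¹ * g,
        by simpa using Subgroup.Normal.conj_mem inferInstance (k : G)⁻¹ (inv_mem k.2) g⁻¹⟩ : K) k
      then (Nat.card (Subgroup.centralizer ({k} : Set K)) : ℂ) else 0) =
    (Nat.card K : ℂ) *
      (if IsConj k⁻¹ k then (Nat.card (Subgroup.centralizer ({(k : G)} : Set G)) : ℂ) else 0) := by
  by_cases hk : IsConj k⁻¹ k
  swap
  · rw [if_neg hk, mul_zero]
    refine Finset.sum_eq_zero fun g _ => if_neg fun h => hk ?_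
    obtain ⟨hg, h'⟩ := isConj_real_of_odd_index K hodd (g := (k : G)) (by
      obtain ⟨c, hc⟩ := isConj_iff.1 h
      refine isConj_iff.2 ⟨c * g⁻¹, ?_⟩
      have := congrArg Subtype.val hc
      simp only [Subgroup.coe_mul, Subgroup.coe_inv] at this
      calc (c : G) * g⁻¹ * (k : G)⁻¹ * ((c : G) * g⁻¹)⁻¹
          = (c : G) * (g⁻¹ * (k : G)⁻¹ * g) * (c : G)⁻¹ := by group
        _ = k := this)
    exact h'
  rw [if_pos hk]
  obtain ⟨h₀, hh₀⟩ := isConj_iff.1 hk
  have e0 : (h₀ : G) * (k : G)⁻¹ * (h₀ : G)⁻¹ = k := by simpa using congrArg Subtype.val hh₀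
  set C := Subgroup.centralizer ({(k : G)} : Set G) with hC
  have hset : ∀ g : G, IsConj (⟨g⁻¹ * (k : G)⁻¹ * g,
      by simpa using Subgroup.Normal.conj_mem inferInstance (k : G)⁻¹ (inv_mem k.2) g⁻¹⟩ : K) k ↔
      g ∈ C ⊔ K := by
    intro g
    rw [isConj_iff]
    constructor
    · rintro ⟨c, hc⟩
      have hc' : (c : G) * (g⁻¹ * (k : G)⁻¹ * g) * (c : G)⁻¹ = k := by
        simpa using congrArg Subtype.val hc
      have hk' : (k : G)⁻¹ = (h₀ : G)⁻¹ * k * h₀ := by
        calc (k : G)⁻¹ = (h₀ : G)⁻¹ * ((h₀ : G) * (k : G)⁻¹ * (h₀ : G)⁻¹) * h₀ := by group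
          _ = _ := by rw [e0]
      have hmem : (c : G) * g⁻¹ * (h₀ : G)⁻¹ ∈ C := by
        rw [hC, Subgroup.mem_centralizer_singleton_iff]
        refine mul_inv_eq_iff_eq_mul.1 ?_
        calc (c : G) * g⁻¹ * (h₀ : G)⁻¹ * k * ((c : G) * g⁻¹ * (h₀ : G)⁻¹)⁻¹
            = (c : G) * (g⁻¹ * ((h₀ : G)⁻¹ * k * h₀) * g) * (c : G)⁻¹ := by group
          _ = k := by rw [← hk', hc']
      have : g = ((h₀ : G)⁻¹ * ((c : G) * g⁻¹ * (h₀ : G)⁻¹)⁻¹) * c := by group
      rw [this]
      exact mul_mem (mul_mem (Subgroup.mem_sup_right (inv_mem h₀.2))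
        (inv_mem (Subgroup.mem_sup_left hmem))) (Subgroup.mem_sup_right c.2)
    · intro hg
      rw [← SetLike.mem_coe, Subgroup.mul_normal C K] at hg
      obtain ⟨u, hu, v, hv, rfl⟩ := hg
      rw [SetLike.mem_coe, hC, Subgroup.mem_centralizer_singleton_iff] at hu
      refine ⟨h₀ * ⟨v, hv⟩, Subtype.ext ?_⟩
      have hu' : u⁻¹ * (k : G)⁻¹ * u = (k : G)⁻¹ := by
        calc u⁻¹ * (k : G)⁻¹ * u = ((u⁻¹ * (k : G) * u))⁻¹ := by group
          _ = (u⁻¹ * (u * (k : G)))⁻¹ := by rw [mul_assoc, ← hu]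
          _ = (k : G)⁻¹ := by group
      simp only [Subgroup.coe_mul, Subgroup.coe_inv]
      calc (h₀ : G) * v * ((u * v)⁻¹ * (k : G)⁻¹ * (u * v)) * ((h₀ : G) * v)⁻¹
          = (h₀ : G) * (u⁻¹ * (k : G)⁻¹ * u) * (h₀ : G)⁻¹ := by group
        _ = k := by rw [hu', e0]
  simp only [hset]
  rw [← Finset.sum_filter, Finset.sum_const, nsmul_eq_mul,
    ← Fintype.card_subtype, ← Nat.card_eq_fintype_card, ← Nat.cast_mul, ← Nat.cast_mul, Nat.cast_inj]
  have hCK : Nat.card (Subgroup.centralizer ({k} : Set K)) = Nat.card (K ⊓ C : Subgroup G) := by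
    rw [Nat.card_congr (Subgroup.equivMapOfInjective _ K.subtype K.subtype_injective).toEquiv]
    congr 2
    ext x
    simp only [Subgroup.mem_map, Subgroup.mem_centralizer_singleton_iff, Subgroup.mem_inf, hC]
    constructor
    · rintro ⟨y, hy, rfl⟩
      exact ⟨y.2, congrArg Subtype.val hy⟩
    · rintro ⟨hx, hx'⟩
      exact ⟨⟨x, hx⟩, Subtype.ext hx', rfl⟩
  rw [hCK]
  have e1 : Nat.card K * K.relIndex (C ⊔ K) = Nat.card (C ⊔ K : Subgroup G) := by
    rw [← Nat.card_congr (Subgroup.subgroupOfEquivOfLe (le_sup_right : K ≤ C ⊔ K)).toEquiv]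
    exact Subgroup.card_mul_index _
  have e2 : Nat.card (K ⊓ C : Subgroup G) * K.relIndex C = Nat.card C := by
    rw [← Subgroup.inf_relIndex_right K C,
      ← Nat.card_congr (Subgroup.subgroupOfEquivOfLe (inf_le_right : K ⊓ C ≤ C)).toEquiv]
    exact Subgroup.card_mul_index _
  show Nat.card (C ⊔ K : Subgroup G) * _ = _
  rw [← e1, Subgroup.relIndex_sup_right, ← e2]
  ring

theorem card_quot_real_char [Fintype G] (hodd : Odd K.index) :
    (Nat.card (Quot (realCharRel K)) : ℂ) = (Nat.card G : ℂ)⁻¹ *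
      ∑ g : G, if IsConj g⁻¹ g then (Nat.card (Subgroup.centralizer ({g} : Set G)) : ℂ) else 0 := by
  letI : MulAction G (IrrCharacter K) :=
    { smul := fun g θ => ⟨conjTwist K g θ.1, isIrrCharacter_conjTwist K g θ.2⟩
      one_smul := fun θ => Subtype.ext (funext fun n => congrArg θ.1 (Subtype.ext (by simp)))
      mul_smul := fun a b θ => Subtype.ext (funext fun n => congrArg θ.1 (Subtype.ext (by
        simp [mul_assoc]))) }
  have hsmul : ∀ (g : G) (θ : IrrCharacter K) (n : K), ((g • θ : IrrCharacter K) : K → ℂ) n =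
      (θ : K → ℂ) ⟨g⁻¹ * n * g, by
        simpa using Subgroup.Normal.conj_mem inferInstance (n : G) n.2 g⁻¹⟩ := fun g θ n => rfl
  have hinvol : Function.Involutive (fun θ : IrrCharacter K =>
      (⟨fun n => conj ((θ : K → ℂ) n), isIrrCharacter_conj θ.2⟩ : IrrCharacter K)) :=
    fun θ => Subtype.ext (funext fun n => Complex.conj_conj _)
  let b : Equiv.Perm (IrrCharacter K) := hinvol.toPerm _
  have hb : ∀ (g : G) (θ : IrrCharacter K), b (g • θ) = g • b θ := fun g θ => rfl
  have hbfix : ∀ θ : IrrCharacter K, b θ = θ ↔ ∀ k : K, ((θ : K → ℂ) k).im = 0 := fun θ =>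
    ⟨fun h k => Complex.conj_eq_iff_im.1 (congrFun (congrArg Subtype.val h) k),
      fun h => Subtype.ext (funext fun k => Complex.conj_eq_iff_im.2 (h k))⟩
  have horb : ∀ θ : IrrCharacter K, Odd (Nat.card (orbit G θ)) := by
    intro θ
    have hK : K ≤ stabilizer G θ := by
      intro x hx
      refine mem_stabilizer_iff.2 (Subtype.ext (funext fun n => ?_))
      rw [hsmul]
      refine Eq.trans ?_ ((IsIrrCharacter.isClassFunction θ.2) n (⟨x, hx⟩⁻¹ : K))
      exact congrArg θ.1 (Subtype.ext (by simp [mul_assoc]))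
    rw [Nat.card_congr (orbitEquivQuotientStabilizer G θ), ← Subgroup.index_eq_card]
    exact hodd.of_dvd_nat (Subgroup.index_dvd_of_le hK)
  let f : Quot (realCharRel K) →
      {ω : orbitRel.Quotient G (IrrCharacter K) // ∀ x, Quotient.mk'' x = ω → b x ∈ orbit G x} :=
    Quot.lift (fun θ => ⟨Quotient.mk'' θ.1, fun x hx => by
      rw [Quotient.eq'', orbitRel_apply] at hx
      obtain ⟨g, hg⟩ := hx
      have hg' : g • θ.1 = x := hg
      rw [← hg', hb, (hbfix θ.1).2 θ.2, orbit_smul]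
      exact mem_orbit _ g⟩)
      (fun θ η ⟨g, hg⟩ => Subtype.ext (Quotient.eq''.2 ⟨g⁻¹, by
        show g⁻¹ • η.1 = θ.1
        rw [inv_smul_eq_iff]
        exact Subtype.ext (funext fun n => by
          rw [hsmul]
          exact hg _ _ (by simp [mul_assoc]))⟩))
  have hf : Function.Bijective f := by
    constructor
    · rintro ⟨θ⟩ ⟨η⟩ h
      have h' := congrArg Subtype.val h
      change (Quotient.mk'' θ.1 : orbitRel.Quotient G (IrrCharacter K)) = Quotient.mk'' η.1 at h'
      rw [Quotient.eq'', orbitRel_apply] at h'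
      obtain ⟨g, hg⟩ := h'
      refine (Quot.sound ⟨g, fun k k' hk => ?_⟩).symm
      rw [show θ.1 = g • η.1 from hg.symm, hsmul]
      exact congrArg η.1.1 (Subtype.ext (by simp [hk, mul_assoc]))
    · rintro ⟨ω, hω⟩
      induction ω using Quotient.inductionOn' with | h x => ?_
      obtain ⟨y, hy, hby⟩ := exists_fixed_of_stable b hb (fun x => hinvol x) (horb x) (hω x rfl)
      exact ⟨Quot.mk _ ⟨y, (hbfix y).1 hby⟩, Subtype.ext (Quotient.eq''.2 hy)⟩
  haveI := Fintype.ofFinite (IrrCharacter K)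
  have h := card_stable_orbits_mul b hb
  rw [← Nat.card_eq_of_bijective f hf, Nat.card_sigma] at h
  have h' : (Nat.card (Quot (realCharRel K)) : ℂ) * Nat.card G =
      ∑ g : G, (Nat.card {θ : IrrCharacter K // g • b θ = θ} : ℂ) := by
    rw [← Nat.cast_mul, h, Nat.cast_sum]
  haveI := Fintype.ofFinite K
  have hfix : ∀ g : G, (Nat.card {θ : IrrCharacter K // g • b θ = θ} : ℂ) = (Nat.card K : ℂ)⁻¹ *
      ∑ k : K, if IsConj (⟨g⁻¹ * (k : G)⁻¹ * g,
          by simpa using Subgroup.Normal.conj_mem inferInstance (k : G)⁻¹ (inv_mem k.2) g⁻¹⟩ : K) k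
        then (Nat.card (Subgroup.centralizer ({k} : Set K)) : ℂ) else 0 := by
    intro g
    let α : K → K := fun k => ⟨g⁻¹ * (k : G)⁻¹ * g,
      by simpa using Subgroup.Normal.conj_mem inferInstance (k : G)⁻¹ (inv_mem k.2) g⁻¹⟩
    have hα : ∀ θ : IrrCharacter K, ((g • b θ : IrrCharacter K) : K → ℂ) = (θ : K → ℂ) ∘ α := by
      intro θ
      funext k
      rw [hsmul]
      show conj ((θ : K → ℂ) _) = _
      rw [← IsIrrCharacter.inv θ.2]
      exact congrArg θ.1 (Subtype.ext (by simp [α, mul_assoc]))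
    rw [← card_fixed_irr α (fun θ => hα θ ▸ (g • b θ).2)]
    congr 1
    exact Nat.card_congr (Equiv.subtypeEquivRight fun θ => by rw [← hα θ, Subtype.ext_iff])
  rw [Finset.sum_congr rfl fun g _ => hfix g, ← Finset.mul_sum, Finset.sum_comm,
    Finset.sum_congr rfl fun k _ => sum_conj_inv_centralizer K hodd k, ← Finset.mul_sum,
    inv_mul_cancel_left₀ (Nat.cast_ne_zero.2 Nat.card_pos.ne')] at h'
  rw [eq_inv_mul_iff_mul_eq₀ (Nat.cast_ne_zero.2 Nat.card_pos.ne'), mul_comm, h',
    ← Finset.sum_subset (Finset.subset_univ ((K : Set G).toFinset)) (fun g _ hg => ?_)]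
  · rw [Finset.sum_subtype (p := fun x => x ∈ K) _ (fun x => Set.mem_toFinset)]
    refine Finset.sum_congr rfl fun k _ => if_congr ⟨fun hk => ?_, fun hk => ?_⟩ rfl rfl
    · obtain ⟨c, hc⟩ := isConj_iff.1 hk
      exact isConj_iff.2 ⟨c, by simpa using congrArg Subtype.val hc⟩
    · exact (isConj_real_of_odd_index K hodd hk).2
  · refine if_neg fun hc => hg ?_
    exact Set.mem_toFinset.2 (isConj_real_of_odd_index K hodd hc).1

end CfsgLib.Correspondences

namespace CfsgLib.Correspondences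

open Cfsg MulAction

attribute [local instance 10000] Classical.propDecidable

variable {G : Type*} [Group G] [Finite G] (K : Subgroup G) [K.Normal]

/-- The relation "conjugate in `G`" on elements of `K` that are real in `K`. -/
def realElemRel (x y : {x : K // IsConj x x⁻¹}) : Prop := ∃ g : G, (y.1 : G) = g * x.1 * g⁻¹

theorem card_quot_real_elem [Fintype G] (hodd : Odd K.index) :
    (Nat.card (Quot (realElemRel K)) : ℂ) = (Nat.card G : ℂ)⁻¹ *
      ∑ g : G, if IsConj g⁻¹ g then (Nat.card (Subgroup.centralizer ({g} : Set G)) : ℂ) else 0 := by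
  letI : MulAction G {x : K // IsConj x x⁻¹} :=
    { smul := fun g x => ⟨MulAut.conjNormal g x.1, by
        have := (MulAut.conjNormal (H := K) g).toMonoidHom.map_isConj x.2
        simpa using this⟩
      one_smul := fun x => Subtype.ext (show MulAut.conjNormal (1 : G) x.1 = x.1 by simp)
      mul_smul := fun a c x => Subtype.ext (show MulAut.conjNormal (a * c) x.1 =
        MulAut.conjNormal a (MulAut.conjNormal c x.1) by simp) }
  have hsmul : ∀ (g : G) (x : {x : K // IsConj x x⁻¹}),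
      ((g • x).1 : G) = g * x.1 * g⁻¹ := fun g x => MulAut.conjNormal_apply g x.1
  have h := card_stable_orbits_mul (G := G) (Equiv.refl {x : K // IsConj x x⁻¹}) (fun g x => rfl)
  let f : Quot (realElemRel K) → {ω : orbitRel.Quotient G {x : K // IsConj x x⁻¹} //
      ∀ x, Quotient.mk'' x = ω → (Equiv.refl _) x ∈ orbit G x} :=
    Quot.lift (fun x => ⟨Quotient.mk'' x, fun y _ => mem_orbit_self y⟩)
      (fun x y ⟨g, hg⟩ => Subtype.ext (Quotient.eq''.2 ⟨g⁻¹, by
        show g⁻¹ • y = x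
        rw [inv_smul_eq_iff]
        exact Subtype.ext (Subtype.ext ((hsmul g x).trans hg.symm).symm)⟩))
  have hf : Function.Bijective f := by
    constructor
    · rintro ⟨x⟩ ⟨y⟩ hxy
      have h' := congrArg Subtype.val hxy
      change (Quotient.mk'' x : orbitRel.Quotient G {x : K // IsConj x x⁻¹}) = Quotient.mk'' y at h'
      rw [Quotient.eq'', orbitRel_apply] at h'
      obtain ⟨g, hg⟩ := h'
      refine (Quot.sound ⟨g, ?_⟩).symm
      rw [← show g • y = x from hg, hsmul]
    · rintro ⟨ω, hω⟩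
      induction ω using Quotient.inductionOn' with | h x => ?_
      exact ⟨Quot.mk _ x, rfl⟩
  rw [← Nat.card_eq_of_bijective f hf] at h
  have e : (Σ g : G, {x : {x : K // IsConj x x⁻¹} // g • (Equiv.refl _) x = x}) ≃
      (Σ x : {x : K // IsConj x x⁻¹}, Subgroup.centralizer ({(x.1 : G)} : Set G)) :=
    { toFun := fun a => ⟨a.2.1, a.1, Subgroup.mem_centralizer_singleton_iff.2 (by
        have := (hsmul a.1 a.2.1).symm.trans
          (congrArg (fun z : {x : K // IsConj x x⁻¹} => (z.1 : G)) a.2.2)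
        exact mul_inv_eq_iff_eq_mul.1 this)⟩
      invFun := fun a => ⟨a.2.1, a.1, by
        refine Subtype.ext (Subtype.ext ((hsmul a.2.1 a.1).trans ?_))
        exact mul_inv_eq_iff_eq_mul.2 (Subgroup.mem_centralizer_singleton_iff.1 a.2.2)⟩
      left_inv := fun a => rfl
      right_inv := fun a => rfl }
  haveI := Fintype.ofFinite K
  rw [Nat.card_congr e, Nat.card_sigma] at h
  rw [eq_inv_mul_iff_mul_eq₀ (Nat.cast_ne_zero.2 Nat.card_pos.ne'), mul_comm, ← Nat.cast_mul, h,
    Nat.cast_sum, ← Finset.sum_subset (Finset.subset_univ ((K : Set G).toFinset)) (fun g _ hg => ?_)]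
  · rw [Finset.sum_subtype (F := inferInstanceAs (Fintype K)) (p := fun x => x ∈ K) _ (fun x => Set.mem_toFinset),
      ← Finset.sum_filter, Finset.sum_subtype (p := fun k : K => IsConj k k⁻¹)]
    intro k
    simp only [Finset.mem_filter, Finset.mem_univ, true_and]
    refine ⟨fun hk => (isConj_real_of_odd_index K hodd hk).2.symm, fun hk => ?_⟩
    obtain ⟨c, hc⟩ := isConj_iff.1 hk.symm
    exact isConj_iff.2 ⟨c, by simpa using congrArg Subtype.val hc⟩
  · refine if_neg fun hc => hg ?_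
    exact Set.mem_toFinset.2 (isConj_real_of_odd_index K hodd hc).1

end CfsgLib.Correspondences
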