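import Mathlib
import Cfsg.Agent.Lib.Correspondences.Codegree
import Cfsg.Agent.Lib.PSolvable.FrattiniFacts
import Cfsg.Agent.Lib.CharTheory.Inflation
import Cfsg.Agent.Lib.CharTheory.Linear
import Cfsg.Agent.Lib.Cores.Basic
import Cfsg.Agent.Lib.ZerosCodegree.PowerTwist

/-!
`p`-groups whose nonlinear irreducible characters of equal degree are Galois conjugate.
-/

set_option autoImplicit false
set_option linter.style.haveILetI false

namespace CfsgLib.Correspondences

open Cfsg CfsgLib.CharTheory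
open scoped commutatorElement

variable {G : Type*} [Group G] [Finite G]

/-- A central element acts on an irreducible character by a scalar of norm one. -/
theorem exists_scalar_center {χ : G → ℂ} (hχ : IsIrrCharacter G χ) {z : G}
    (hz : z ∈ Subgroup.center G) : ∃ c : ℂ, ‖c‖ = 1 ∧ ∀ g, χ (z * g) = c * χ g := by
  obtain ⟨d, ρ, hρ, rfl⟩ := hχ
  obtain ⟨c, hc⟩ := exists_smul_of_commute ρ (ρ z) fun g => by
    rw [← Module.End.mul_eq_comp, ← Module.End.mul_eq_comp, ← map_mul, ← map_mul,
      Subgroup.mem_center_iff.mp hz g]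
  haveI : Nontrivial (Fin d → ℂ) := nontrivial_of_isIrreducible ρ
  refine ⟨c, norm_eq_one_of_smul_id ρ hc, fun g => ?_⟩
  show LinearMap.trace ℂ _ (ρ (z * g)) = c * LinearMap.trace ℂ _ (ρ g)
  rw [map_mul, hc, smul_mul_assoc, map_smul, smul_eq_mul, ← Module.End.one_eq_id, one_mul]

/-- A character of degree one kills the commutator subgroup. -/
theorem commutator_le_charKer {χ : G → ℂ} (hχ : IsIrrCharacter G χ) (h1 : charDegree χ = 1) :
    commutator G ≤ charKer (IsIrrCharacter.isCharacter hχ) := by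
  obtain ⟨f, hf⟩ := exists_hom_of_degree_one hχ
    (by rw [← charDegree_cast (IsIrrCharacter.isCharacter hχ), h1, Nat.cast_one])
  intro g hg
  rw [mem_charKer, hf]
  show (f g : ℂ) = (f 1 : ℂ)
  rw [MonoidHom.mem_ker.1 (Abelianization.commutator_subset_ker f hg), map_one]

/-- A character whose kernel contains the commutator subgroup has degree one. -/
theorem charDegree_eq_one_of_commutator_le {χ : G → ℂ} (hχ : IsIrrCharacter G χ)
    (h : commutator G ≤ charKer (IsIrrCharacter.isCharacter hχ)) : charDegree χ = 1 := by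
  obtain ⟨ψ, hψ⟩ := exists_deflate hχ (commutator G) fun x hx => h hx
  have h1 := apply_one_eq_one_of_comm (A := G ⧸ commutator G)
    (fun a b => by
      obtain ⟨a, rfl⟩ := QuotientGroup.mk'_surjective _ a
      obtain ⟨b, rfl⟩ := QuotientGroup.mk'_surjective _ b
      rw [← map_mul, ← map_mul]
      refine (QuotientGroup.eq).2 ?_
      rw [show (a * b)⁻¹ * (b * a) = ⁅b⁻¹, a⁻¹⁆ by rw [commutatorElement_def]; group]
      exact Subgroup.commutator_mem_commutator (Subgroup.mem_top _) (Subgroup.mem_top _)) ψ.2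
  rw [← map_one (QuotientGroup.mk' (commutator G)), hψ] at h1
  simp [charDegree, h1]

/-- A noncommutative group has a nonlinear irreducible character. -/
theorem exists_nonlinear (hna : commutator G ≠ ⊥) :
    ∃ χ : IrrCharacter G, charDegree (χ : G → ℂ) ≠ 1 := by
  haveI := Fintype.ofFinite G
  rw [Ne, Subgroup.eq_bot_iff_forall] at hna
  push Not at hna
  obtain ⟨g, hg, hg1⟩ := hna
  obtain ⟨χ, hχ⟩ := exists_irr_apply_ne hg1
  exact ⟨χ, fun h => hχ (commutator_le_charKer χ.2 h hg)⟩

/-- A faithful irreducible character vanishes on elements with a central nontrivial commutator. -/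
theorem apply_eq_zero_of_commutator {χ : G → ℂ} (hχ : IsIrrCharacter G χ)
    (hf : ∀ g, χ g = χ 1 → g = 1) (hcl : commutator G ≤ Subgroup.center G) {x : G}
    (hx : x ∉ Subgroup.center G) : χ x = 0 := by
  rw [Subgroup.mem_center_iff] at hx
  push Not at hx
  obtain ⟨y, hy⟩ := hx
  have hz : ⁅y, x⁆ ∈ Subgroup.center G :=
    hcl (Subgroup.commutator_mem_commutator (Subgroup.mem_top y) (Subgroup.mem_top x))
  obtain ⟨c, -, hc⟩ := exists_scalar_center hχ hz
  have h1 := hc x
  rw [commutatorElement_def, show y * x * y⁻¹ * x⁻¹ * x = y * x * y⁻¹ by group,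
    IsIrrCharacter.isClassFunction hχ x y] at h1
  by_contra h0
  have hc1 : c = 1 := (mul_eq_right₀ h0).1 h1.symm
  have h2 := hc 1
  rw [mul_one, hc1, one_mul] at h2
  refine hy ?_
  have h3 := hf _ h2
  rw [commutatorElement_def] at h3
  calc y * x = (y * x * y⁻¹ * x⁻¹) * (x * y) := by group
    _ = x * y := by rw [h3, one_mul]

/-- The squared degree times the order of the centre is at most the order, with equality when
the character vanishes off the centre. -/
theorem sq_charDegree_mul_card_center {χ : G → ℂ} (hχ : IsIrrCharacter G χ) :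
    charDegree χ ^ 2 * Nat.card (Subgroup.center G) ≤ Nat.card G ∧
      ((∀ x, x ∉ Subgroup.center G → χ x = 0) →
        charDegree χ ^ 2 * Nat.card (Subgroup.center G) = Nat.card G) := by
  classical
  haveI := Fintype.ofFinite G
  have h := classInner_self_of_isIrr hχ
  simp only [classInner, Complex.mul_conj] at h
  have hG : (Nat.card G : ℂ) ≠ 0 := Nat.cast_ne_zero.2 Nat.card_pos.ne'
  rw [inv_mul_eq_one₀ hG, ← Complex.ofReal_sum, ← Complex.ofReal_natCast, Complex.ofReal_inj] at h
  have hcst : ∀ z ∈ Finset.univ.filter (fun x => x ∈ Subgroup.center G),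
      Complex.normSq (χ z) = (charDegree χ : ℝ) ^ 2 := fun z hz => by
    obtain ⟨c, hc, hcg⟩ := exists_scalar_center hχ (Finset.mem_filter.1 hz).2
    have := hcg 1
    rw [mul_one, ← charDegree_cast (IsIrrCharacter.isCharacter hχ)] at this
    rw [this, Complex.normSq_eq_norm_sq, norm_mul, hc, one_mul, Complex.norm_natCast]
  rw [← Finset.sum_filter_add_sum_filter_not Finset.univ (fun x => x ∈ Subgroup.center G),
    Finset.sum_congr rfl hcst, Finset.sum_const, nsmul_eq_mul,
    ← Fintype.card_subtype (fun x => x ∈ Subgroup.center G), ← Nat.card_eq_fintype_card] at h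
  have hn : (0 : ℝ) ≤ ∑ x ∈ Finset.univ.filter (fun x => ¬ x ∈ Subgroup.center G),
      Complex.normSq (χ x) := Finset.sum_nonneg fun x _ => Complex.normSq_nonneg _
  constructor
  · have : ((charDegree χ ^ 2 * Nat.card (Subgroup.center G) : ℕ) : ℝ) ≤ (Nat.card G : ℝ) := by
      push_cast
      rw [mul_comm]
      exact h.symm ▸ le_add_of_nonneg_right hn
    exact_mod_cast this
  · intro hv
    rw [Finset.sum_eq_zero fun x hx => by rw [hv x (Finset.mem_filter.1 hx).2, map_zero],
      add_zero] at h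
    have : ((charDegree χ ^ 2 * Nat.card (Subgroup.center G) : ℕ) : ℝ) = (Nat.card G : ℝ) := by
      push_cast
      rw [mul_comm]
      exact h.symm
    exact_mod_cast this

/-- All nonlinear irreducible characters of equal degree are Galois conjugate. -/
def GaloisDegrees (G : Type*) [Group G] : Prop :=
  ∀ χ ψ : IrrCharacter G, charDegree (χ : G → ℂ) ≠ 1 →
    charDegree (χ : G → ℂ) = charDegree (ψ : G → ℂ) →
    ∃ k : ℕ, Nat.Coprime k (Nat.card G) ∧ ∀ g : G, (ψ : G → ℂ) g = (χ : G → ℂ) (g ^ k)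

theorem GaloisDegrees.quotient (h : GaloisDegrees G) (N : Subgroup G) [N.Normal] :
    GaloisDegrees (G ⧸ N) := by
  intro χ ψ h1 h2
  have hs := QuotientGroup.mk'_surjective N
  obtain ⟨k, hk, hkg⟩ := h ⟨_, isIrrCharacter_comp_of_surjective χ.2 (QuotientGroup.mk' N) hs⟩
    ⟨_, isIrrCharacter_comp_of_surjective ψ.2 (QuotientGroup.mk' N) hs⟩
    (by simpa [charDegree] using h1) (by simpa [charDegree] using h2)
  refine ⟨k, hk.coprime_dvd_right (Subgroup.card_quotient_dvd_card N), fun q => ?_⟩
  obtain ⟨g, rfl⟩ := hs q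
  simpa using hkg g

variable {p : ℕ} [Fact p.Prime]

theorem commutator_le_center_of_card (hG : IsPGroup p G) (hc : Nat.card (commutator G) = p) :
    commutator G ≤ Subgroup.center G := by
  haveI := hG.isNilpotent
  have hp : p.Prime := Fact.out
  have hne : commutator G ≠ ⊥ := fun h => by
    rw [h, Subgroup.card_bot] at hc; exact hp.one_lt.ne hc
  have h1 := CfsgLib.PSolvable.inf_center_ne_bot (N := commutator G) hne
  have hdvd := Subgroup.card_dvd_of_le (inf_le_left : commutator G ⊓ Subgroup.center G ≤ _)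
  rw [hc] at hdvd
  rcases hp.eq_one_or_self_of_dvd _ hdvd with h | h
  · exact absurd (Subgroup.eq_bot_of_card_eq _ h) h1
  · exact (Subgroup.eq_of_le_of_card_ge (inf_le_left : commutator G ⊓ Subgroup.center G ≤ _)
      (by rw [h, hc])).ge.trans inf_le_right

/-- If the derived subgroup has order `p` and either the centre is cyclic or the Galois
hypothesis holds, nonlinear irreducible characters are faithful. -/
theorem faithful_of_nonlinear (hG : IsPGroup p G) (hc : Nat.card (commutator G) = p)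
    (hyp : GaloisDegrees G ∨ IsCyclic (Subgroup.center G)) {χ : G → ℂ}
    (hχ : IsIrrCharacter G χ) (h1 : charDegree χ ≠ 1) : ∀ g, χ g = χ 1 → g = 1 := by
  haveI := hG.isNilpotent
  haveI := Fintype.ofFinite G
  have hp : p.Prime := Fact.out
  have hcχ := IsIrrCharacter.isCharacter hχ
  haveI := charKer_normal hcχ
  by_contra hcon
  have hne : charKer hcχ ≠ ⊥ := fun h => hcon fun g hg => by
    rw [← Subgroup.mem_bot, ← h]; exact hg
  have hK := CfsgLib.PSolvable.inf_center_ne_bot (N := charKer hcχ) hne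
  set T := charKer hcχ ⊓ Subgroup.center G with hT
  haveI : Nontrivial T := (Subgroup.nontrivial_iff_ne_bot T).2 hK
  obtain ⟨x, hx⟩ := exists_prime_orderOf_dvd_card' (G := T) p
    ((hG.to_subgroup T).card_eq_or_dvd.resolve_left (Finite.one_lt_card (α := T)).ne')
  have hxo : orderOf (x : G) = p := by rw [Subgroup.orderOf_coe, hx]
  -- it suffices that `x` lies in the derived subgroup
  by_cases hxc : (x : G) ∈ commutator G
  · refine h1 (charDegree_eq_one_of_commutator_le hχ ?_)
    have hz : Subgroup.zpowers (x : G) = commutator G :=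
      Subgroup.eq_of_le_of_card_ge (Subgroup.zpowers_le.2 hxc) (by rw [Nat.card_zpowers, hxo, hc])
    rw [← hz]
    exact Subgroup.zpowers_le.2 x.2.1
  rcases hyp with hgal | hcyc
  · -- separate `x` by a linear character
    haveI : Finite (Abelianization G) := inferInstance
    have hne : Abelianization.of (x : G) ≠ 1 := fun h => hxc (by
      rw [← Abelianization.ker_of]; exact h)
    haveI : NeZero (Monoid.exponent (Abelianization G)) := ⟨Monoid.exponent_ne_zero_of_finite⟩
    obtain ⟨φ, hφ⟩ := CommGroup.exists_apply_ne_one_of_hasEnoughRootsOfUnity (Abelianization G) ℂ hne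
    let μ : G →* ℂˣ := φ.comp Abelianization.of
    have hnorm : ∀ g : G, ‖(μ g : ℂ)‖ = 1 := fun g => by
      refine Complex.norm_eq_one_of_pow_eq_one (n := Nat.card G) ?_ Nat.card_pos.ne'
      rw [← Units.val_pow_eq_pow_val, ← map_pow, pow_card_eq_one', map_one, Units.val_one]
    have hψ : IsIrrCharacter G ((fun g => (μ g : ℂ)) * χ) :=
      isIrrCharacter_mul_of_norm hχ (IsIrrCharacter.isCharacter (isIrrCharacter_linear μ)) hnorm
    obtain ⟨k, -, hk⟩ := hgal ⟨χ, hχ⟩ ⟨_, hψ⟩ h1 (by simp [charDegree])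
    have h2 := hk (x : G)
    have hxk : χ ((x : G) ^ k) = χ 1 := pow_mem x.2.1 k
    simp only [Pi.mul_apply] at h2
    rw [hxk, show χ (x : G) = χ 1 from x.2.1] at h2
    exact hφ (Units.ext (by simpa [μ] using (mul_eq_right₀ (apply_one_ne_zero_of_isIrr hχ)).1 h2))
  · -- the centre has only one subgroup of order `p`
    refine hxc ?_
    haveI := hcyc
    obtain ⟨y, hy⟩ := exists_prime_orderOf_dvd_card' (G := commutator G) p (by rw [hc])
    have hyz : (y : G) ∈ Subgroup.center G := commutator_le_center_of_card hG hc y.2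
    classical
    haveI := Fintype.ofFinite (Subgroup.center G)
    set yz : Subgroup.center G := ⟨(y : G), hyz⟩ with hyzd
    have hyo : orderOf yz = p := by rw [← Subgroup.orderOf_coe, ← hy, ← Subgroup.orderOf_coe y]
    have hfin : (Finset.univ.filter fun a : Subgroup.center G => a ∈ Subgroup.zpowers yz) =
        Finset.univ.filter fun a : Subgroup.center G => a ^ p = 1 := by
      refine Finset.eq_of_subset_of_card_le (fun a ha => ?_) ?_
      · obtain ⟨i, rfl⟩ := Subgroup.mem_zpowers_iff.1 (Finset.mem_filter.1 ha).2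
        refine Finset.mem_filter.2 ⟨Finset.mem_univ _, ?_⟩
        rw [← zpow_natCast, ← zpow_mul, mul_comm, zpow_mul, zpow_natCast,
          orderOf_dvd_iff_pow_eq_one.1 (dvd_of_eq hyo), one_zpow]
      · refine (IsCyclic.card_pow_eq_one_le hp.pos).trans ?_
        rw [← Fintype.card_subtype (fun a => a ∈ Subgroup.zpowers yz), ← Nat.card_eq_fintype_card]
        exact ((Nat.card_zpowers yz).trans hyo).ge
    have hxm : (⟨(x : G), x.2.2⟩ : Subgroup.center G) ∈
        Finset.univ.filter (fun a : Subgroup.center G => a ^ p = 1) :=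
      Finset.mem_filter.2 ⟨Finset.mem_univ _, Subtype.ext
        (orderOf_dvd_iff_pow_eq_one.1 (dvd_of_eq hxo))⟩
    rw [← hfin] at hxm
    obtain ⟨i, hi⟩ := Subgroup.mem_zpowers_iff.1 (Finset.mem_filter.1 hxm).2
    have := congrArg Subtype.val hi
    rw [SubgroupClass.coe_zpow] at this
    rw [← this]
    exact zpow_mem y.2 i

/-- Counting: the derived subgroup has order `p`. -/
theorem card_commutator_of_galoisDegrees.{u} {P : Type u} [Group P] [Finite P]
    (hP : IsPGroup p P) (hgal : GaloisDegrees P) (hna : commutator P ≠ ⊥) :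
    Nat.card (commutator P) = p := by
  classical
  suffices H : ∀ n, ∀ (P : Type u) [Group P] [Finite P], Nat.card P = n → IsPGroup p P →
      GaloisDegrees P → commutator P ≠ ⊥ → Nat.card (commutator P) = p from
    H _ P rfl hP hgal hna
  clear! P
  intro n
  induction n using Nat.strong_induction_on with
  | h n ih =>
  intro P _ _ hn hP hgal hna
  subst hn
  by_contra hne
  haveI := hP.isNilpotent
  haveI := Fintype.ofFinite P
  haveI := Fintype.ofFinite (IrrCharacter P)
  have hp : p.Prime := Fact.out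
  have hT := CfsgLib.PSolvable.inf_center_ne_bot (N := commutator P) hna
  haveI : Nontrivial (commutator P ⊓ Subgroup.center P : Subgroup P) :=
    (Subgroup.nontrivial_iff_ne_bot _).2 hT
  obtain ⟨n₀, hn₀⟩ := exists_prime_orderOf_dvd_card'
    (G := (commutator P ⊓ Subgroup.center P : Subgroup P)) p
    ((hP.to_subgroup _).card_eq_or_dvd.resolve_left
      (Finite.one_lt_card (α := (commutator P ⊓ Subgroup.center P : Subgroup P))).ne')
  have hno : orderOf (n₀ : P) = p := by rw [Subgroup.orderOf_coe, hn₀]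
  set N := Subgroup.zpowers (n₀ : P) with hN
  have hNc : N ≤ commutator P := Subgroup.zpowers_le.2 n₀.2.1
  have hNz : N ≤ Subgroup.center P := Subgroup.zpowers_le.2 n₀.2.2
  haveI hNn : N.Normal := ⟨fun a ha g => by
    rwa [Subgroup.mem_center_iff.1 (hNz ha) g, mul_assoc, mul_inv_cancel, mul_one]⟩
  have hNp : Nat.card N = p := by rw [hN, Nat.card_zpowers, hno]
  have hQn : commutator (P ⧸ N) ≠ ⊥ := by
    intro h
    refine hne (le_antisymm ?_ ?_)
    · rw [← hNp]
      refine Subgroup.card_le_of_le fun a ha => ?_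
      rw [← QuotientGroup.eq_one_iff, ← Subgroup.mem_bot, ← h, commutator_def,
        ← Subgroup.map_top_of_surjective _ (QuotientGroup.mk'_surjective N),
        ← Subgroup.map_commutator, ← commutator_def]
      exact ⟨a, ha, rfl⟩
    · rw [← hNp]; exact Subgroup.card_le_of_le hNc
  have hQlt : Nat.card (P ⧸ N) < Nat.card P := by
    rw [Subgroup.card_eq_card_quotient_mul_card_subgroup N, hNp]
    exact lt_mul_of_one_lt_right Nat.card_pos hp.one_lt
  have hQp := hP.to_quotient N
  have hQc := ih _ hQlt (P ⧸ N) rfl hQp (hgal.quotient N) hQn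
  have hQf : ∀ χ : IrrCharacter (P ⧸ N), charDegree (χ : P ⧸ N → ℂ) ≠ 1 →
      charDegree (χ : P ⧸ N → ℂ) ^ 2 * Nat.card (Subgroup.center (P ⧸ N)) = Nat.card (P ⧸ N) :=
    fun χ h => (sq_charDegree_mul_card_center χ.2).2 fun x hx => apply_eq_zero_of_commutator χ.2
      (faithful_of_nonlinear hQp hQc (Or.inl (hgal.quotient N)) χ.2 h)
      (commutator_le_center_of_card hQp hQc) hx
  obtain ⟨χ₀, hχ₀⟩ := exists_nonlinear hQn
  obtain ⟨a, ha⟩ : ∃ a, charDegree (χ₀ : P ⧸ N → ℂ) = p ^ a := by
    obtain ⟨m, hm⟩ := IsPGroup.iff_card.1 hQp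
    obtain ⟨i, -, hi⟩ := (Nat.dvd_prime_pow hp).1 (hm ▸ charDegree_dvd_card χ₀.2)
    exact ⟨i, hi⟩
  set C := (Subgroup.center (P ⧸ N)).comap (QuotientGroup.mk' N) with hC
  have hCcard : Nat.card C = p * Nat.card (Subgroup.center (P ⧸ N)) := by
    rw [hC, CfsgLib.Cores.card_comap_mk', hNp]
  have hPcard : Nat.card P = (p ^ a) ^ 2 * Nat.card C := by
    rw [hCcard, Subgroup.card_eq_card_quotient_mul_card_subgroup N, hNp, ← hQf χ₀ hχ₀, ha]
    ring
  -- `p`-th powers lie in `C`
  have hpow : ∀ g : P, g ^ p ∈ C := fun g => by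
    rw [hC, Subgroup.mem_comap, map_pow, Subgroup.mem_center_iff]
    intro y
    have hcl := commutator_le_center_of_card hQp hQc
    set x := QuotientGroup.mk' N g
    have hm : ⁅y, x⁆ ∈ commutator (P ⧸ N) :=
      Subgroup.commutator_mem_commutator (Subgroup.mem_top y) (Subgroup.mem_top x)
    have hm1 : ⁅y, x⁆ ^ p = 1 := by
      have := pow_card_eq_one' (x := (⟨_, hm⟩ : commutator (P ⧸ N)))
      rw [hQc] at this
      exact congrArg Subtype.val this
    have h2 : (y * x * y⁻¹) ^ p = x ^ p := by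
      rw [show y * x * y⁻¹ = ⁅y, x⁆ * x by rw [commutatorElement_def]; group,
        Commute.mul_pow (Subgroup.mem_center_iff.1 (hcl hm) x).symm, hm1, one_mul]
    rw [conj_pow] at h2
    calc y * x ^ p = (y * x ^ p * y⁻¹) * y := by group
      _ = x ^ p * y := by rw [h2]
  -- the centre has index at most `p` in `C`
  have hCZ : Nat.card C ≤ p * Nat.card (Subgroup.center P) := by
    have hQcyc : IsCyclic (Subgroup.center (P ⧸ N)) := by
      have hf := faithful_of_nonlinear hQp hQc (Or.inl (hgal.quotient N)) χ₀.2 hχ₀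
      obtain ⟨d, ρ, hρ, hρχ⟩ := χ₀.2
      have hs : ∀ z : Subgroup.center (P ⧸ N), ∃ c : ℂ, ρ (z : P ⧸ N) = c • LinearMap.id := fun z =>
        exists_smul_of_commute ρ (ρ z) fun g => by
          rw [← Module.End.mul_eq_comp, ← Module.End.mul_eq_comp, ← map_mul, ← map_mul,
            Subgroup.mem_center_iff.mp z.2 g]
      choose c hc using hs
      haveI : Nontrivial (Fin d → ℂ) := nontrivial_of_isIrreducible ρ
      have hinj : Function.Injective fun z : ℂ => z • (LinearMap.id : (Fin d → ℂ) →ₗ[ℂ] _) :=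
        smul_left_injective ℂ (m := (LinearMap.id : (Fin d → ℂ) →ₗ[ℂ] _))
          (by rw [← Module.End.one_eq_id]; exact one_ne_zero)
      refine isCyclic_of_injective_ringHom (R := ℂ)
        ({ toFun := c
           map_one' := hinj (by simp [← hc, Module.End.one_eq_id])
           map_mul' := fun z w => hinj (by
             show c (z * w) • LinearMap.id = (c z * c w) • LinearMap.id
             rw [← hc, Subgroup.coe_mul, map_mul, hc, hc, ← Module.End.one_eq_id, smul_mul_smul_comm,
               one_mul]) } : Subgroup.center (P ⧸ N) →* ℂ) fun z w h => Subtype.ext ?_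
      have hzw : ρ ((z : P ⧸ N) * (w : P ⧸ N)⁻¹) = 1 := by
        rw [map_mul, hc z, show c z = c w from h, ← hc w, ← map_mul, mul_inv_cancel, map_one]
      refine mul_inv_eq_one.1 (hf _ ?_)
      rw [show ((χ₀ : P ⧸ N → ℂ)) = ρ.character from hρχ.symm]
      show LinearMap.trace ℂ _ (ρ _) = LinearMap.trace ℂ _ (ρ 1)
      rw [hzw, map_one ρ]
    obtain ⟨c, hc⟩ := hQcyc.exists_generator
    obtain ⟨c', hc'⟩ := QuotientGroup.mk'_surjective N (c : P ⧸ N)
    have hcC : c' ∈ C := by
      rw [hC, Subgroup.mem_comap, hc']; exact c.2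
    have hcp : c' ^ p ∈ Subgroup.center P := by
      rw [Subgroup.mem_center_iff]
      intro y
      have hm : ⁅y, c'⁆ ∈ N := by
        rw [← QuotientGroup.eq_one_iff]
        show QuotientGroup.mk' N ⁅y, c'⁆ = 1
        rw [map_commutatorElement, hc', commutatorElement_eq_one_iff_mul_comm]
        exact Subgroup.mem_center_iff.1 c.2 _
      have hm1 : ⁅y, c'⁆ ^ p = 1 := by
        have := pow_card_eq_one' (x := (⟨_, hm⟩ : N))
        rw [hNp] at this
        exact congrArg Subtype.val this
      have h2 : (y * c' * y⁻¹) ^ p = c' ^ p := by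
        rw [show y * c' * y⁻¹ = ⁅y, c'⁆ * c' by rw [commutatorElement_def]; group,
          Commute.mul_pow (Subgroup.mem_center_iff.1 (hNz hm) c').symm, hm1, one_mul]
      rw [conj_pow] at h2
      calc y * c' ^ p = (y * c' ^ p * y⁻¹) * y := by group
        _ = c' ^ p * y := by rw [h2]
    have hle : C.map (QuotientGroup.mk' (Subgroup.center P)) ≤
        Subgroup.zpowers (QuotientGroup.mk' (Subgroup.center P) c') := by
      rintro _ ⟨g, hg, rfl⟩
      obtain ⟨i, hi⟩ := Subgroup.mem_zpowers_iff.1 (hc ⟨_, hg⟩)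
      have hgi : (c' ^ i)⁻¹ * g ∈ N := by
        rw [← QuotientGroup.eq_one_iff]
        show QuotientGroup.mk' N ((c' ^ i)⁻¹ * g) = 1
        rw [map_mul, map_inv, map_zpow, hc', inv_mul_eq_one]
        simpa using congrArg Subtype.val hi
      refine Subgroup.mem_zpowers_iff.2 ⟨i, ?_⟩
      rw [← map_zpow]
      exact (QuotientGroup.eq).2 (hNz hgi)
    have hord : orderOf (QuotientGroup.mk' (Subgroup.center P) c') ≤ p := by
      refine orderOf_le_of_pow_eq_one hp.pos ?_
      rw [← map_pow]; exact (QuotientGroup.eq_one_iff _).2 hcp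
    have hZC : Subgroup.center P ≤ C := fun z hz => by
      rw [hC, Subgroup.mem_comap, Subgroup.mem_center_iff]
      intro y
      obtain ⟨y, rfl⟩ := QuotientGroup.mk'_surjective N y
      rw [← map_mul, ← map_mul, Subgroup.mem_center_iff.1 hz y]
    have h1 : Nat.card (C.map (QuotientGroup.mk' (Subgroup.center P))) ≤ p :=
      ((Subgroup.card_le_of_le hle).trans_eq (Nat.card_zpowers _)).trans hord
    have h2 := CfsgLib.Cores.card_comap_mk' (Subgroup.center P)
      (C.map (QuotientGroup.mk' (Subgroup.center P)))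
    rw [Subgroup.comap_map_eq, QuotientGroup.ker_mk', sup_eq_left.2 hZC] at h2
    rw [h2, mul_comm]
    exact Nat.mul_le_mul_right _ h1
  -- characters nontrivial on `N`
  set S := Finset.univ.filter fun χ : IrrCharacter P =>
    (χ : P → ℂ) (n₀ : P) ≠ (χ : P → ℂ) 1 with hS
  have hdeg : ∀ χ ∈ S, ∃ i, i < a ∧ charDegree (χ : P → ℂ) = p ^ i := by
    intro χ hχ
    obtain ⟨m, hm⟩ := IsPGroup.iff_card.1 hP
    obtain ⟨i, -, hi⟩ := (Nat.dvd_prime_pow hp).1 (hm ▸ charDegree_dvd_card χ.2)
    refine ⟨i, ?_, hi⟩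
    have h1 : charDegree (χ : P → ℂ) ≠ 1 := fun h =>
      (Finset.mem_filter.1 hχ).2 (commutator_le_charKer χ.2 h n₀.2.1)
    have hia : i ≠ a := by
      intro hia
      obtain ⟨k, -, hk⟩ := hgal
        ⟨_, isIrrCharacter_comp_of_surjective χ₀.2 (QuotientGroup.mk' N) (QuotientGroup.mk'_surjective N)⟩
        χ (by simpa [charDegree] using hχ₀) (by rw [hi, hia, ← ha]; simp [charDegree])
      refine (Finset.mem_filter.1 hχ).2 ?_
      rw [hk, hk]
      simp [show ((n₀ : P) : P ⧸ N) = 1 from
        (QuotientGroup.eq_one_iff _).2 (Subgroup.mem_zpowers _)]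
    have h2 := (sq_charDegree_mul_card_center χ.2).1
    rw [hi, hPcard] at h2
    have h3 : (p ^ i) ^ 2 ≤ p * (p ^ a) ^ 2 := by
      refine Nat.le_of_mul_le_mul_right (h2.trans ?_) (Nat.card_pos (α := Subgroup.center P))
      calc (p ^ a) ^ 2 * Nat.card C ≤ (p ^ a) ^ 2 * (p * Nat.card (Subgroup.center P)) :=
            Nat.mul_le_mul_left _ hCZ
        _ = _ := by ring
    rw [← pow_mul, ← pow_mul, ← pow_succ', Nat.pow_le_pow_iff_right hp.one_lt] at h3
    omega
  obtain ⟨j, hj⟩ := IsPGroup.iff_card.1 (hP.to_subgroup C)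
  have hcount : ∀ i, (S.filter fun χ : IrrCharacter P => charDegree (χ : P → ℂ) = p ^ i).card ≤
      Nat.card C * (p - 1) := by
    intro i
    rcases Finset.eq_empty_or_nonempty
      (S.filter fun χ : IrrCharacter P => charDegree (χ : P → ℂ) = p ^ i) with h | ⟨χ, hχ⟩
    · simp [h]
    obtain ⟨hχS, hχi⟩ := Finset.mem_filter.1 hχ
    have hχ1 : charDegree (χ : P → ℂ) ≠ 1 := fun h =>
      (Finset.mem_filter.1 hχS).2 (commutator_le_charKer χ.2 h n₀.2.1)
    set m := p * Nat.card C with hm
    have htot : m.totient = Nat.card C * (p - 1) := by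
      rw [hm, hj, ← pow_succ', Nat.totient_prime_pow_succ hp]
    rw [← htot, Nat.totient]
    refine le_trans ?_ (Finset.card_image_le
      (f := fun k => fun g : P => (χ : P → ℂ) (g ^ k)))
    refine Finset.card_le_card_of_injOn (fun ψ => (ψ : P → ℂ)) (fun ψ hψ => ?_)
      fun a _ b _ h => Subtype.ext h
    obtain ⟨hψS, hψi⟩ := Finset.mem_filter.1 hψ
    obtain ⟨k, hk, hkg⟩ := hgal χ ψ hχ1 (hχi.trans hψi.symm)
    have hmP : ∀ g : P, g ^ m = 1 := fun g => by
      rw [hm, pow_mul]
      exact congrArg Subtype.val (pow_card_eq_one' (x := (⟨_, hpow g⟩ : C)))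
    refine Finset.mem_image.2 ⟨k % m, Finset.mem_filter.2
      ⟨Finset.mem_range.2 (Nat.mod_lt _ (Nat.mul_pos hp.pos Nat.card_pos)), ?_⟩, funext fun g => ?_⟩
    · show m.Coprime (k % m)
      rw [hm, hj, ← pow_succ']
      refine Nat.Coprime.pow_left _ (hp.coprime_iff_not_dvd.2 fun hd => ?_)
      rw [Nat.dvd_mod_iff (dvd_pow_self p (Nat.succ_ne_zero j))] at hd
      exact Nat.not_coprime_of_dvd_of_dvd hp.one_lt hd
        (hno ▸ orderOf_dvd_natCard (n₀ : P)) hk
    · show (χ : P → ℂ) (g ^ (k % m)) = (ψ : P → ℂ) g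
      rw [hkg g, ← pow_eq_pow_mod k (hmP g)]
  -- the sum of their squared degrees
  have hsum : p * ∑ χ ∈ S, charDegree (χ : P → ℂ) ^ 2 + Nat.card P = p * Nat.card P := by
    haveI := Fintype.ofFinite N
    have h1 : ∑ x : N, ∑ χ : IrrCharacter P, (χ : P → ℂ) 1 * (χ : P → ℂ) x = (Nat.card P : ℂ) := by
      simp only [sum_degree_mul, OneMemClass.coe_eq_one, Finset.sum_ite_eq', Finset.mem_univ, if_true]
    rw [Finset.sum_comm] at h1
    simp only [← Finset.mul_sum] at h1
    rw [← Finset.sum_filter_add_sum_filter_not Finset.univ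
      (fun χ : IrrCharacter P => (χ : P → ℂ) (n₀ : P) ≠ (χ : P → ℂ) 1),
      Finset.sum_eq_zero (fun χ hχ => by
        rw [sum_normal_eq_zero χ.2 N ⟨_, Subgroup.mem_zpowers _, (Finset.mem_filter.1 hχ).2⟩,
          mul_zero]), zero_add] at h1
    have h2 : ∀ χ ∈ Finset.univ.filter (fun χ : IrrCharacter P => ¬ (χ : P → ℂ) (n₀ : P) ≠ (χ : P → ℂ) 1),
        (χ : P → ℂ) 1 * ∑ x : N, (χ : P → ℂ) x = ((p * charDegree (χ : P → ℂ) ^ 2 : ℕ) : ℂ) := by
      intro χ hχ
      have hker : N ≤ charKer (IsIrrCharacter.isCharacter χ.2) :=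
        Subgroup.zpowers_le.2 (not_not.1 (Finset.mem_filter.1 hχ).2)
      rw [Finset.sum_congr rfl (fun (x : N) _ => show (χ : P → ℂ) x = (χ : P → ℂ) 1 from hker x.2),
        Finset.sum_const, Finset.card_univ, ← Nat.card_eq_fintype_card, hNp, nsmul_eq_mul,
        ← charDegree_cast (IsIrrCharacter.isCharacter χ.2)]
      push_cast; ring
    rw [Finset.sum_congr rfl h2, ← Nat.cast_sum, Nat.cast_inj, ← Finset.mul_sum] at h1
    have h3 := sum_charDegree_sq (G := P)
    rw [← Finset.sum_filter_add_sum_filter_not Finset.univ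
      (fun χ : IrrCharacter P => (χ : P → ℂ) (n₀ : P) ≠ (χ : P → ℂ) 1)] at h3
    rw [← h3, mul_add, h1, ← h3]
  have hmaps : Set.MapsTo (fun χ : IrrCharacter P => (charDegree (χ : P → ℂ)).factorization p) S
      (Finset.range a) := fun χ hχ => by
    obtain ⟨i, hi, he⟩ := hdeg χ hχ
    simp [he, hp.factorization_pow, hi]
  have hbound : ∑ χ ∈ S, charDegree (χ : P → ℂ) ^ 2 ≤
      Nat.card C * (p - 1) * ∑ i ∈ Finset.range a, (p ^ 2) ^ i := by
    rw [Finset.mul_sum, ← Finset.sum_fiberwise_of_maps_to hmaps]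
    refine Finset.sum_le_sum fun i _ => ?_
    have he : ∀ χ ∈ S.filter (fun χ : IrrCharacter P => (charDegree (χ : P → ℂ)).factorization p = i),
        charDegree (χ : P → ℂ) = p ^ i := fun χ hχ => by
      obtain ⟨h1, h2⟩ := Finset.mem_filter.1 hχ
      obtain ⟨i', -, he⟩ := hdeg χ h1
      rw [he] at h2 ⊢
      simp [hp.factorization_pow] at h2
      rw [h2]
    rw [Finset.sum_congr rfl fun χ hχ => by rw [he χ hχ, ← pow_mul, mul_comm i 2, pow_mul],
      Finset.sum_const, smul_eq_mul]
    refine Nat.mul_le_mul_right _ (le_trans (Finset.card_le_card fun χ hχ => ?_) (hcount i))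
    exact Finset.mem_filter.2 ⟨(Finset.mem_filter.1 hχ).1, he χ hχ⟩
  have hgeom : (∑ i ∈ Finset.range a, (p ^ 2) ^ i) * (p ^ 2 - 1) = (p ^ 2) ^ a - 1 :=
    geom_sum_mul_of_one_le (Nat.one_le_pow _ _ hp.pos) a
  set Tsum := ∑ i ∈ Finset.range a, (p ^ 2) ^ i
  have hkey : (p - 1) * Nat.card P ≤ (p - 1) * (p * Nat.card C * Tsum) := by
    have := Nat.mul_le_mul_left p hbound
    rw [Nat.sub_mul, one_mul]
    calc p * Nat.card P - Nat.card P = p * ∑ χ ∈ S, charDegree (χ : P → ℂ) ^ 2 := by omega
      _ ≤ _ := this.trans_eq (by ring)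
  have h2 := Nat.le_of_mul_le_mul_left hkey (Nat.sub_pos_of_lt hp.one_lt)
  rw [hPcard, mul_comm p, mul_assoc, mul_comm ((p ^ a) ^ 2)] at h2
  have h3 := Nat.le_of_mul_le_mul_left h2 (Nat.card_pos (α := C))
  have hpp : p ≤ p ^ 2 - 1 := by
    have : 2 * p ≤ p ^ 2 := by rw [sq]; exact Nat.mul_le_mul_right _ hp.two_le
    have := hp.two_le
    omega
  have h4 : (p ^ 2) ^ a * p ≤ ((p ^ 2) ^ a - 1) * p := by
    calc (p ^ 2) ^ a * p ≤ (p ^ 2) ^ a * (p ^ 2 - 1) := Nat.mul_le_mul_left _ hpp
      _ ≤ p * Tsum * (p ^ 2 - 1) := by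
        rw [← pow_mul p 2 a, mul_comm 2 a, pow_mul]
        exact Nat.mul_le_mul_right _ h3
      _ = _ := by rw [mul_assoc, hgeom, mul_comm]
  have h5 := Nat.le_of_mul_le_mul_right h4 hp.pos
  have h6 : 1 ≤ (p ^ 2) ^ a := Nat.one_le_pow _ _ (pow_pos hp.pos 2)
  omega

end CfsgLib.Correspondences
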