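import Mathlib
import Cfsg.Agent.Lib.Correspondences.CharKer
import Cfsg.Agent.Lib.CharTheory.Decomp
import Cfsg.Agent.Lib.Frobenius.Induce

/-!
Existence of irreducible characters of `p'`-degree trivial on a normal `p'`-subgroup and
nontrivial at a given element of a Sylow `p`-subgroup outside its derived subgroup.
-/

set_option autoImplicit false
set_option linter.style.haveILetI false

namespace CfsgLib.Correspondences

open Cfsg CfsgLib.CharTheory
open scoped commutatorElement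

variable {G : Type*} [Group G]

theorem isCharacter_hom (f : G →* ℂˣ) : IsCharacter G (fun g => (f g : ℂ)) := by
  let ρ : Representation ℂ G (Fin 1 → ℂ) :=
    { toFun := fun g => (f g : ℂ) • 1
      map_one' := by simp
      map_mul' := fun a b => by simp [smul_smul, mul_comm] }
  refine ⟨1, ρ, funext fun g => ?_⟩
  show LinearMap.trace ℂ _ ((f g : ℂ) • (1 : (Fin 1 → ℂ) →ₗ[ℂ] (Fin 1 → ℂ))) = _
  rw [map_smul, LinearMap.trace_one]
  simp

theorem isIrrCharacter_hom [Finite G] (f : G →* ℂˣ) : IsIrrCharacter G (fun g => (f g : ℂ)) := by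
  haveI := Fintype.ofFinite G
  have h := isCharacter_hom f
  refine (isIrrCharacter_iff_norm_one h).2 ?_
  have h2 : ∀ g : G, (f g : ℂ) * (starRingEnd ℂ) (f g : ℂ) = 1 := fun g => by
    rw [Complex.mul_conj', Complex.norm_eq_one_of_pow_eq_one (n := orderOf g) ?_ (orderOf_pos g).ne']
    · simp
    · rw [← Units.val_pow_eq_pow_val, ← map_pow, pow_orderOf_eq_one, map_one, Units.val_one]
  rw [Cfsg.classInner, Finset.sum_congr rfl (fun g _ => h2 g)]
  simp [Nat.card_eq_fintype_card]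

/-- Constituents of `p'`-degree of a character induced from a linear character. -/
theorem exists_irr_not_dvd_of_hom [Finite G] {p : ℕ} (U : Subgroup G) (hU : ¬ p ∣ U.index)
    (f : U →* ℂˣ) (N : Subgroup G) [N.Normal] (hNU : N ≤ U)
    (hN : ∀ n : U, (n : G) ∈ N → f n = 1) {x : U} (hx : f x ≠ 1) :
    ∃ ψ : IrrCharacter G, ¬ p ∣ charDegree (ψ : G → ℂ) ∧
      (∀ n ∈ N, (ψ : G → ℂ) n = (ψ : G → ℂ) 1) ∧ (ψ : G → ℂ) x ≠ (ψ : G → ℂ) 1 := by
  classical
  haveI := Fintype.ofFinite G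
  haveI := Fintype.ofFinite U
  haveI := Fintype.ofFinite N
  haveI := Fintype.ofFinite (IrrCharacter G)
  obtain ⟨m, hm⟩ := IsCharacter.exists_sum
    (CfsgLib.Frobenius.isCharacter_indFun U _ (isCharacter_hom f))
  have hdeg : U.index = ∑ ψ, m ψ * charDegree (ψ : G → ℂ) := by
    have h := congrFun hm 1
    rw [CfsgLib.Frobenius.indFun_one] at h
    simp only [map_one, Units.val_one, mul_one, Finset.sum_apply, Pi.smul_apply, smul_eq_mul] at h
    have h2 : ((∑ ψ, m ψ * charDegree (ψ : G → ℂ) : ℕ) : ℂ) = (U.index : ℂ) := by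
      rw [h, Nat.cast_sum]
      exact Finset.sum_congr rfl fun ψ _ => by
        rw [Nat.cast_mul, charDegree_cast (IsIrrCharacter.isCharacter ψ.2)]
    exact_mod_cast h2.symm
  obtain ⟨ψ, -, hψ⟩ : ∃ ψ ∈ Finset.univ, ¬ p ∣ m ψ * charDegree (ψ : G → ℂ) := by
    by_contra hc
    push Not at hc
    exact hU (hdeg ▸ Finset.dvd_sum hc)
  have hne : classInner (fun u : U => (f u : ℂ)) (fun u : U => (ψ : G → ℂ) u) ≠ 0 := by
    rw [← CfsgLib.Frobenius.classInner_indFun U _ _ (IsIrrCharacter.isClassFunction ψ.2), hm,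
      classInner_sum_irr]
    exact_mod_cast fun h : m ψ = 0 => hψ (by simp [h])
  set S := ∑ u : U, (f u : ℂ) * (starRingEnd ℂ) ((ψ : G → ℂ) u) with hS
  have hS0 : S ≠ 0 := by
    intro h
    apply hne
    rw [Cfsg.classInner, ← hS, h, mul_zero]
  have hshift : ∀ y : U, ∑ u : U, (f (u * y) : ℂ) * (starRingEnd ℂ) ((ψ : G → ℂ) ((u * y : U) : G)) = S :=
    fun y => Fintype.sum_equiv (Equiv.mulRight y) _ _ fun _ => rfl
  refine ⟨ψ, fun h => hψ (dvd_mul_of_dvd_right h _), ?_, ?_⟩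
  · by_contra hc
    push Not at hc
    have h1 : ∑ n : N, ∑ u : U, (f (u * ⟨n, hNU n.2⟩) : ℂ) *
        (starRingEnd ℂ) ((ψ : G → ℂ) ((u * ⟨n, hNU n.2⟩ : U) : G)) = 0 := by
      rw [Finset.sum_comm]
      refine Finset.sum_eq_zero fun u _ => ?_
      have h2 : ∀ n : N, f (u * ⟨n, hNU n.2⟩) = f u := fun n => by
        rw [map_mul, hN ⟨n, hNU n.2⟩ n.2, mul_one]
      simp only [h2, Subgroup.coe_mul, ← Finset.mul_sum, ← map_sum,
        sum_coset_eq_zero ψ.2 N hc, map_zero, mul_zero]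
    simp only [hshift, Finset.sum_const, Finset.card_univ, nsmul_eq_mul, mul_eq_zero,
      Nat.cast_eq_zero, Fintype.card_ne_zero, false_or] at h1
    exact hS0 h1
  · intro hc
    have h1 := hshift x
    have h2 : ∀ u : U, (f (u * x) : ℂ) * (starRingEnd ℂ) ((ψ : G → ℂ) ((u * x : U) : G)) =
        (f x : ℂ) * ((f u : ℂ) * (starRingEnd ℂ) ((ψ : G → ℂ) u)) := fun u => by
      rw [map_mul, Units.val_mul, Subgroup.coe_mul,
        apply_mul_of_mem_ker (IsIrrCharacter.isCharacter ψ.2) hc]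
      ring
    simp only [h2, ← Finset.mul_sum, ← hS] at h1
    refine hx (Units.ext ?_)
    rw [Units.val_one]
    exact mul_right_cancel₀ hS0 (h1.trans (one_mul S).symm)

/-- A `p'`-degree irreducible character trivial on the normal `p'`-subgroup `N` and nontrivial at
a given element of `P` outside `P'`. -/
theorem exists_irr_not_dvd_of_sylow [Finite G] {p : ℕ} [hp : Fact p.Prime] (P : Sylow p G)
    (N : Subgroup G) [N.Normal] (hN : ¬ p ∣ Nat.card N) {x : G} (hxP : x ∈ (P : Subgroup G))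
    (hx : x ∉ ⁅(P : Subgroup G), (P : Subgroup G)⁆) :
    ∃ ψ : IrrCharacter G, ¬ p ∣ charDegree (ψ : G → ℂ) ∧
      (∀ n ∈ N, (ψ : G → ℂ) n = (ψ : G → ℂ) 1) ∧ (ψ : G → ℂ) x ≠ (ψ : G → ℂ) 1 := by
  have hdisj : (P : Subgroup G) ⊓ N = ⊥ := by
    obtain ⟨k, hk⟩ := IsPGroup.iff_card.1 P.2
    exact Subgroup.inf_eq_bot_of_coprime
      (by rw [hk]; exact (hp.out.coprime_iff_not_dvd.2 hN).pow_left k)
  have hxa : (Abelianization.of (⟨x, hxP⟩ : (P : Subgroup G))) ≠ 1 := by
    intro h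
    apply hx
    have h' : (⟨x, hxP⟩ : (P : Subgroup G)) ∈ commutator (P : Subgroup G) :=
      (QuotientGroup.eq_one_iff _).1 h
    rw [← Subgroup.map_subtype_commutator]
    exact ⟨_, h', rfl⟩
  obtain ⟨φ, hφ⟩ :=
    CommGroup.exists_apply_ne_one_of_hasEnoughRootsOfUnity (Abelianization (P : Subgroup G)) ℂ hxa
  set U : Subgroup G := N ⊔ (P : Subgroup G) with hU
  have hPU : (P : Subgroup G) ≤ U := le_sup_right
  let g : (P : Subgroup G) →* U ⧸ N.subgroupOf U :=
    (QuotientGroup.mk' _).comp (Subgroup.inclusion hPU)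
  have hg : Function.Bijective g := by
    constructor
    · rw [injective_iff_map_eq_one]
      intro a ha
      have h : (a : G) ∈ N := (QuotientGroup.eq_one_iff (Subgroup.inclusion hPU a)).1 ha
      apply Subtype.ext
      exact Subgroup.mem_bot.1 (hdisj ▸ Subgroup.mem_inf.2 ⟨a.2, h⟩)
    · rintro ⟨u, hu⟩
      obtain ⟨n, hn, a, ha, rfl⟩ := Subgroup.mem_sup_of_normal_left.1 hu
      refine ⟨⟨a, ha⟩, ?_⟩
      refine (QuotientGroup.eq).2 ?_
      rw [Subgroup.mem_subgroupOf]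
      show a⁻¹ * (n * a) ∈ N
      rw [← mul_assoc]
      simpa using Subgroup.Normal.conj_mem inferInstance n hn a⁻¹
  let e := MulEquiv.ofBijective g hg
  let f : U →* ℂˣ :=
    ((φ.comp Abelianization.of).comp e.symm.toMonoidHom).comp (QuotientGroup.mk' _)
  refine exists_irr_not_dvd_of_hom U ?_ f N le_sup_left ?_ (x := ⟨x, hPU hxP⟩) ?_
  · exact fun h => P.not_dvd_index (h.trans (Subgroup.index_dvd_of_le hPU))
  · intro n hn
    have : QuotientGroup.mk' (N.subgroupOf U) n = 1 := (QuotientGroup.eq_one_iff n).2 hn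
    show φ (Abelianization.of (e.symm (QuotientGroup.mk' (N.subgroupOf U) n))) = 1
    rw [this, map_one, map_one, map_one]
  · show φ (Abelianization.of (e.symm (g ⟨x, hxP⟩))) ≠ 1
    rwa [show e.symm (g ⟨x, hxP⟩) = ⟨x, hxP⟩ from e.symm_apply_apply _]

end CfsgLib.Correspondences
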