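import Mathlib
import Cfsg.Agent.Lib.Clifford.Basic
import Cfsg.Agent.Lib.Frobenius.Induce
import Cfsg.Agent.Lib.Correspondences.CharKer
import Cfsg.Agent.Lib.CharDegreesTheory.CoprimeExtension
import Cfsg.Agent.Lib.CharTheory.Linear

/-!
A `p'`-degree character above a character that extends to a subgroup of `p'`-index, and the
consequences for inertia groups when all `p'`-degree characters have `q'`-degree.
-/

set_option autoImplicit false
set_option linter.style.haveILetI false

namespace CfsgLib.Correspondences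

open Cfsg CfsgLib.CharTheory

universe u
variable {G : Type u} [Group G] [Finite G] {p : ℕ}

/-- An extension to a subgroup of `p'`-index gives a `p'`-degree character lying above. -/
theorem exists_pPrime_degree_over (hp : p.Prime) {N U : Subgroup G} [Fintype N] (hNU : N ≤ U)
    (hidx : ¬ p ∣ U.index) {μ : U → ℂ} (hμ : IsIrrCharacter U μ) {θ : N → ℂ}
    (hθ : IsIrrCharacter N θ) (hres : ∀ n : N, μ ⟨(n : G), hNU n.2⟩ = θ n)
    (hdeg : ¬ p ∣ charDegree θ) :
    ∃ χ : IrrCharacter G, ¬ p ∣ charDegree (χ : G → ℂ) ∧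
      classInner (fun n : N => (χ : G → ℂ) n) θ ≠ 0 := by
  classical
  haveI := Fintype.ofFinite G
  haveI := Fintype.ofFinite U
  haveI := Fintype.ofFinite (IrrCharacter G)
  have hμc := IsIrrCharacter.isCharacter hμ
  have hc := CfsgLib.Frobenius.isCharacter_indFun U μ hμc
  obtain ⟨m, hm⟩ := IsCharacter.exists_sum hc
  have h1 := congrFun hm 1
  simp only [CfsgLib.Frobenius.indFun_one, Finset.sum_apply, Pi.smul_apply, smul_eq_mul] at h1
  have hμ1 : μ 1 = (charDegree θ : ℂ) := by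
    rw [charDegree_cast (IsIrrCharacter.isCharacter hθ), ← hres 1]
    rfl
  have h2 : U.index * charDegree θ = ∑ χ : IrrCharacter G, m χ * charDegree (χ : G → ℂ) := by
    have : ((U.index * charDegree θ : ℕ) : ℂ) =
        ((∑ χ : IrrCharacter G, m χ * charDegree (χ : G → ℂ) : ℕ) : ℂ) := by
      push_cast
      rw [← hμ1, h1]
      exact Finset.sum_congr rfl fun χ _ => by
        rw [charDegree_cast (IsIrrCharacter.isCharacter χ.2)]
    exact_mod_cast this
  obtain ⟨χ, -, hχ⟩ : ∃ χ ∈ (Finset.univ : Finset (IrrCharacter G)),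
      ¬ p ∣ m χ * charDegree (χ : G → ℂ) := by
    by_contra hcon
    push Not at hcon
    exact hp.not_dvd_mul hidx hdeg (h2 ▸ Finset.dvd_sum hcon)
  have hm0 : m χ ≠ 0 := fun h => hχ (by simp [h])
  refine ⟨χ, fun h => hχ (dvd_mul_of_dvd_right h _), ?_⟩
  have h3 : classInner μ (fun u : U => (χ : G → ℂ) u) = (m χ : ℂ) := by
    rw [← CfsgLib.Frobenius.classInner_indFun U μ (χ : G → ℂ)
      (IsIrrCharacter.isClassFunction χ.2), hm, classInner_sum_irr]
  have h4 : classInner (fun u : U => (χ : G → ℂ) u) μ ≠ 0 := by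
    rw [classInner_conj_symm, h3, Complex.conj_natCast]
    exact_mod_cast hm0
  obtain ⟨a, e, ha, he, hle⟩ := CfsgLib.Clifford.classInner_res_le hNU
    (IsIrrCharacter.isCharacter χ.2) hθ {(⟨μ, hμ⟩ : IrrCharacter U)}
    (fun ψ hψ => by rw [Finset.mem_singleton.1 hψ]; exact h4)
  rw [Finset.sum_singleton] at hle
  have he1 := he ⟨μ, hμ⟩
  rw [show (fun n : N => μ ⟨(n : G), hNU n.2⟩) = θ from funext hres,
    classInner_self_of_isIrr hθ] at he1
  rw [ha]
  have : e ⟨μ, hμ⟩ = 1 := by exact_mod_cast he1.symm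
  exact_mod_cast (by omega : a ≠ 0)

/-- If all `p'`-degree characters have `q'`-degree, inertia groups of characters extendible to a
subgroup of `p'`-index have `q'`-index. -/
theorem not_dvd_index_inertia (hp : p.Prime) {q : ℕ}
    (hH : ∀ χ : IrrCharacter G, ¬ p ∣ charDegree (χ : G → ℂ) → ¬ q ∣ charDegree (χ : G → ℂ))
    {N U : Subgroup G} [N.Normal] (hNU : N ≤ U) (hidx : ¬ p ∣ U.index) {μ : U → ℂ}
    (hμ : IsIrrCharacter U μ) {θ : N → ℂ} (hθ : IsIrrCharacter N θ)
    (hres : ∀ n : N, μ ⟨(n : G), hNU n.2⟩ = θ n) (hdeg : ¬ p ∣ charDegree θ) (T : Subgroup G)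
    (hT : ∀ g : G, g ∈ T ↔ CfsgLib.Clifford.conjChar N θ g = θ) : ¬ q ∣ T.index := by
  classical
  haveI := Fintype.ofFinite G
  haveI := Fintype.ofFinite N
  obtain ⟨χ, hχp, hχ⟩ := exists_pPrime_degree_over hp hNU hidx hμ hθ hres hdeg
  have hcχ : IsCharacter N (fun n : N => (χ : G → ℂ) n) :=
    CfsgLib.Coherence.isCharacter_comp (IsIrrCharacter.isCharacter χ.2) N.subtype
  obtain ⟨a, ha⟩ := IsCharacter.exists_classInner_eq_nat hcχ ⟨θ, hθ⟩
  have h := CfsgLib.Clifford.apply_one_eq N χ.2 hθ hχ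
  rw [CfsgLib.Clifford.card_conjOrbit N θ T hT, ha,
    ← charDegree_cast (IsIrrCharacter.isCharacter χ.2),
    ← charDegree_cast (IsIrrCharacter.isCharacter hθ), ← Nat.cast_mul, ← Nat.cast_mul,
    Nat.cast_inj] at h
  exact fun hd => hH χ hχp (h ▸ (hd.mul_left a).mul_right _)

/-- An invariant character of a normal subgroup of coprime index inside a larger subgroup
extends. -/
theorem exists_extension_coprime_le {N U : Subgroup G} [N.Normal] (hNU : N ≤ U)
    (hcop : (Nat.card N).Coprime (N.relIndex U)) {θ : N → ℂ} (hθ : IsIrrCharacter N θ)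
    (hinv : ∀ g ∈ U, ∀ n : N, θ (MulAut.conjNormal g n) = θ n) :
    ∃ μ : U → ℂ, IsIrrCharacter U μ ∧ ∀ n : N, μ ⟨(n : G), hNU n.2⟩ = θ n := by
  let e : N.subgroupOf U ≃* N := Subgroup.subgroupOfEquivOfLe hNU
  obtain ⟨μ, hμ, hres⟩ := CfsgLib.CharDegreesTheory.exists_extension_of_coprime (N.subgroupOf U)
    (by rwa [Nat.card_congr e.toEquiv]) (fun n => θ (e n))
    (isIrrCharacter_comp_mulEquiv hθ e) (fun g n => by
      rw [← hinv (g : G) g.2 (e n)]
      exact congrArg θ (Subtype.ext (by simp [e])))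
  exact ⟨μ, hμ, fun n => (hres (e.symm n)).trans (congrArg θ (e.apply_symm_apply n))⟩

/-- An invariant linear character extends along a disjoint supplement. -/
theorem exists_hom_extension {N A : Subgroup G} [N.Normal] (hd : Disjoint N A) (l : N →* ℂˣ)
    (hinv : ∀ a ∈ A, ∀ n : N, l (MulAut.conjNormal a n) = l n) :
    ∃ μ : (N ⊔ A : Subgroup G) →* ℂˣ, ∀ n : N, μ ⟨(n : G), le_sup_left (b := A) n.2⟩ = l n := by
  have hdec : ∀ u : (N ⊔ A : Subgroup G), ∃ n : N, ∃ a : A, (u : G) = n * a := fun u => by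
    have := u.2
    rw [← SetLike.mem_coe, Subgroup.normal_mul] at this
    obtain ⟨n, hn, a, ha, h⟩ := this
    exact ⟨⟨n, hn⟩, ⟨a, ha⟩, h.symm⟩
  choose nf af hf using hdec
  have huniq : ∀ (u : (N ⊔ A : Subgroup G)) (n : N) (a : A), (u : G) = n * a → nf u = n :=
    fun u n a h => (Prod.mk.inj (Subgroup.mul_injective_of_disjoint hd
      (show ((nf u, af u).1 : G) * (nf u, af u).2 = ((n, a).1 : G) * (n, a).2 by
        rw [← hf u]; exact h))).1
  refine ⟨MonoidHom.mk' (fun u => l (nf u)) fun u v => ?_, fun n => ?_⟩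
  · rw [huniq (u * v) (nf u * MulAut.conjNormal (af u : G) (nf v)) (af u * af v) (by
      rw [Subgroup.coe_mul, hf u, hf v, Subgroup.coe_mul, Subgroup.coe_mul,
        MulAut.conjNormal_apply]
      group), map_mul, hinv _ (af u).2]
  · show l (nf _) = l n
    rw [huniq _ n 1 (by simp)]

end CfsgLib.Correspondences
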