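import Mathlib
import Cfsg.Agent.Lib.Correspondences.SeparableStab
import Cfsg.Agent.Lib.Correspondences.GlaubermanFixed
import Cfsg.Agent.Lib.Correspondences.Inflate
import Cfsg.Agent.Lib.CharTheory.Ito
import Cfsg.Agent.Lib.PSolvable.HallHigman
import Cfsg.Agent.Lib.Cores.PCore
import Cfsg.Agent.Lib.Cores.Basic
import Cfsg.Agent.Lib.CoprimeAction.Sylow

/-!
Groups separable for two primes in which the characters of degree prime to one prime, trivial on
the corresponding core, have degree prime to the other, and symmetrically.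
-/

set_option autoImplicit false
set_option linter.style.haveILetI false

namespace CfsgLib.Correspondences

open Cfsg CfsgLib.CharTheory CfsgLib.Clifford
open scoped Pointwise commutatorElement

universe u

/-- The characters of `p'`-degree trivial on `O_{p'}` have `q'`-degree. -/
def PrimeToDegrees (p q : ℕ) (G : Type u) [Group G] : Prop :=
  ∀ χ : IrrCharacter G, (∀ x ∈ pPrimeCore p G, (χ : G → ℂ) x = (χ : G → ℂ) 1) →
    ¬ p ∣ charDegree (χ : G → ℂ) → ¬ q ∣ charDegree (χ : G → ℂ)

variable {G : Type u} [Group G] [Finite G] {p q : ℕ}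

theorem PrimeToDegrees.quotient (h : PrimeToDegrees p q G) (N : Subgroup G) [N.Normal] :
    PrimeToDegrees p q (G ⧸ N) := by
  intro χ hk hd
  have hs := QuotientGroup.mk'_surjective N
  have h1 := h ⟨_, isIrrCharacter_comp_of_surjective χ.2 (QuotientGroup.mk' N) hs⟩ (fun x hx => by
    show (χ : G ⧸ N → ℂ) (QuotientGroup.mk' N x) = (χ : G ⧸ N → ℂ) (QuotientGroup.mk' N 1)
    rw [map_one]
    exact hk _ (CfsgLib.Cores.map_pPrimeCore_le_of_surjective hs ⟨x, hx, rfl⟩))
  simp only [charDegree, map_one] at h1 hd ⊢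
  exact h1 hd

/-- For a normal subgroup the relative index of any subgroup divides its index. -/
theorem relIndex_dvd_index_of_normal_right {J : Subgroup G} [J.Normal] (T : Subgroup G) :
    T.relIndex J ∣ T.index := by
  have h1 : (T ⊓ J).index = J.relIndex T * T.index := by
    rw [← Subgroup.relIndex_mul_index (inf_le_left : T ⊓ J ≤ T), inf_comm, Subgroup.inf_relIndex_right]
  have h2 : (T ⊓ J).index = T.relIndex J * J.index := by
    rw [← Subgroup.relIndex_mul_index (inf_le_right : T ⊓ J ≤ J), Subgroup.inf_relIndex_right]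
  obtain ⟨c, hc⟩ := Subgroup.relIndex_dvd_index_of_normal J T
  refine ⟨c, Nat.eq_of_mul_eq_mul_left (Nat.pos_of_ne_zero
    (show J.relIndex T ≠ 0 from (J.subgroupOf T).index_ne_zero_of_finite)) ?_⟩
  rw [← h1, h2, hc]; ring

omit [Finite G] in
theorem coprime_of_pgroup [Finite G] [Fact p.Prime] {A : Subgroup G} (hA : IsPGroup p A)
    {n : ℕ} (hn : ¬ p ∣ n) : (Nat.card A).Coprime n := by
  obtain ⟨k, hk⟩ := IsPGroup.iff_card.1 hA
  rw [hk]
  exact ((Fact.out : p.Prime).coprime_iff_not_dvd.2 hn).pow_left k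

theorem pgroup_le_of_not_dvd_index [Fact p.Prime] {A R : Subgroup G} [R.Normal]
    (hA : IsPGroup p A) (hR : ¬ p ∣ R.index) : A ≤ R := by
  intro a ha
  rw [← QuotientGroup.eq_one_iff]
  refine orderOf_eq_one_iff.1 (Nat.eq_one_of_dvd_coprimes (coprime_of_pgroup hA hR) ?_ ?_)
  · exact (orderOf_map_dvd (QuotientGroup.mk' R) a).trans (Subgroup.orderOf_dvd_natCard A ha)
  · exact orderOf_dvd_natCard _

/-- A normal Hall subgroup of a normal subgroup: the Frattini factorisation through a
complement. -/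
theorem exists_frattini_complement (V H : Subgroup G) [V.Normal] [H.Normal]
    (hVH : V ≤ H) (hVc : ∀ a ∈ V, ∀ b ∈ V, a * b = b * a) {m : ℕ}
    (hcard : Nat.card H = Nat.card V * m) (hcop : (Nat.card V).Coprime m) :
    ∃ H0 : Subgroup G, H0 ≤ H ∧ Nat.card H0 = m ∧ V ⊓ H0 = ⊥ ∧ V ⊔ H0 = H ∧
      ∀ g : G, ∃ v ∈ V, v * g ∈ Subgroup.normalizer (H0 : Set G) := by
  have hV' : Nat.card (V.subgroupOf H) = Nat.card V :=
    Nat.card_congr (Subgroup.subgroupOfEquivOfLe hVH).toEquiv
  have hidx : (V.subgroupOf H).index = m :=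
    Nat.eq_of_mul_eq_mul_left Nat.card_pos
      (show Nat.card (V.subgroupOf H) * (V.subgroupOf H).index =
        Nat.card (V.subgroupOf H) * m by rw [Subgroup.card_mul_index, hcard, hV'])
  obtain ⟨H0', hH0'⟩ := Subgroup.exists_right_complement'_of_coprime (N := V.subgroupOf H)
    (by rwa [hV', hidx])
  set H0 := H0'.map H.subtype with hH0
  have hc : Nat.card H0 = m := by
    rw [hH0, Subgroup.card_map_of_injective H.subtype_injective]
    refine Nat.eq_of_mul_eq_mul_left (Nat.card_pos (α := V)) ?_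
    rw [← hV', hH0'.card_mul_card, hcard, hV']
  have hle : H0 ≤ H := Subgroup.map_subtype_le _
  have hsup : V ⊔ H0 = H := by
    refine le_antisymm (sup_le hVH hle) ?_
    rw [hH0, ← Subgroup.map_subgroupOf_eq_of_le hVH, ← Subgroup.map_sup, hH0'.sup_eq_top,
      ← MonoidHom.range_eq_map, Subgroup.range_subtype]
  refine ⟨H0, hle, hc, (Subgroup.disjoint_of_coprime_natCard (hc ▸ hcop)).eq_bot, hsup, fun g => ?_⟩
  have hsolv : Group.IsSolvable V :=
    Group.isSolvable_of_comm fun a b => Subtype.ext (hVc a a.2 b b.2)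
  have hB : MulAut.conj g • H0 ≤ V ⊔ H0 := by
    rw [hsup]
    intro x hx
    rw [Subgroup.mem_pointwise_smul_iff_inv_smul_mem] at hx
    have := Subgroup.Normal.conj_mem (inferInstance : H.Normal) _ (hle hx) g
    simpa [MulAut.smul_def, mul_assoc] using this
  obtain ⟨n, hn, hn'⟩ := CfsgLib.CoprimeAction.exists_le_conj_of_coprime
    (by rw [Subgroup.normalizer_eq_top]; exact le_top) hB
    (by rw [CfsgLib.CoprimeAction.card_conj_smul, hc]; exact hcop.symm) (Or.inr hsolv)
  have heq : MulAut.conj g • H0 = MulAut.conj n • H0 := Subgroup.eq_of_le_of_card_ge hn'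
    (by rw [CfsgLib.CoprimeAction.card_conj_smul, CfsgLib.CoprimeAction.card_conj_smul])
  refine ⟨n⁻¹, inv_mem hn, CfsgLib.CoprimeAction.conj_smul_eq_self.1 ?_⟩
  rw [map_mul, mul_smul, heq, ← mul_smul, ← map_mul, inv_mul_cancel, map_one, one_smul]

/-- One half, assuming both conclusions for smaller groups. -/
theorem not_dvd_index_step [Fact p.Prime] [Fact q.Prime] (hpq : p ≠ q) (hps : IsPSolvable p G)
    (hqs : IsPSolvable q G) (hP : PrimeToDegrees p q G)
    (ih : ∀ (N : Subgroup G) [N.Normal], N ≠ ⊥ →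
      ¬ q ∣ (pPrimeCore p (G ⧸ N)).index ∧ ¬ p ∣ (pPrimeCore q (G ⧸ N)).index) :
    ¬ q ∣ (pPrimeCore p G).index := by
  classical
  have hp : p.Prime := Fact.out
  have hq : q.Prime := Fact.out
  by_cases hbot : pPrimeCore p G = ⊥
  swap
  · have := (ih _ hbot).1
    rwa [CfsgLib.Cores.pPrimeCore_quotient_pPrimeCore, Subgroup.index_bot,
      ← Subgroup.index_eq_card] at this
  intro hqG
  rw [hbot, Subgroup.index_bot] at hqG
  have hall : ∀ χ : IrrCharacter G, ¬ p ∣ charDegree (χ : G → ℂ) → ¬ q ∣ charDegree (χ : G → ℂ) :=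
    fun χ => hP χ fun x hx => by rw [hbot, Subgroup.mem_bot] at hx; rw [hx]
  haveI : Nontrivial G := by
    rw [← Finite.one_lt_card_iff_nontrivial]
    exact hq.one_lt.trans_le (Nat.le_of_dvd Nat.card_pos hqG)
  -- the minimal normal subgroup `V`
  have hOp : pCore p G ≠ ⊥ :=
    (CfsgLib.PSolvable.core_ne_bot hps).resolve_right fun h => h hbot
  haveI : Nontrivial (pCore p G) := (Subgroup.nontrivial_iff_ne_bot _).2 hOp
  set Zc := (Subgroup.center (pCore p G)).map (pCore p G).subtype with hZc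
  haveI : Zc.Normal := inferInstance
  have hZne : Zc ≠ ⊥ := by
    rw [hZc, Ne, Subgroup.map_eq_bot_iff_of_injective _ (pCore p G).subtype_injective]
    exact (CfsgLib.Cores.isPGroup_pCore p G).bot_lt_center.ne'
  obtain ⟨V, ⟨hVn, hVZ, hVne⟩, hVmin⟩ := Set.Finite.exists_minimal
    (s := {W : Subgroup G | W.Normal ∧ W ≤ Zc ∧ W ≠ ⊥}) (Set.toFinite _)
    ⟨Zc, inferInstance, le_rfl, hZne⟩
  haveI := hVn
  have hVO : V ≤ pCore p G := hVZ.trans (Subgroup.map_subtype_le _)
  have hVp : IsPGroup p V := (CfsgLib.Cores.isPGroup_pCore p G).to_le hVO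
  have hVc : ∀ a ∈ V, ∀ b ∈ V, a * b = b * a := fun a ha b hb => by
    obtain ⟨a', ha', rfl⟩ := hVZ ha
    exact congrArg Subtype.val (Subgroup.mem_center_iff.1 ha' ⟨b, hVO hb⟩).symm
  obtain ⟨nV, hnV⟩ := IsPGroup.iff_card.1 hVp
  have hqV : ¬ q ∣ Nat.card V := fun h => hpq ((Nat.prime_dvd_prime_iff_eq hq hp).1
    (hq.dvd_of_dvd_pow (hnV ▸ h))).symm
  obtain ⟨hH1, hR1⟩ := ih V hVne
  set H := (pPrimeCore p (G ⧸ V)).comap (QuotientGroup.mk' V) with hH
  set R := pPrimeCore q G with hR
  have hVH : V ≤ H := QuotientGroup.le_comap_mk' _ _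
  set m := Nat.card (pPrimeCore p (G ⧸ V)) with hm
  have hcardH : Nat.card H = Nat.card V * m := CfsgLib.Cores.card_comap_mk' _ _
  have hpm : ¬ p ∣ m := CfsgLib.Cores.not_dvd_card_pPrimeCore
  have hqH : ¬ q ∣ H.index := by
    rwa [hH, Subgroup.index_comap_of_surjective _ (QuotientGroup.mk'_surjective V)]
  have hpR : ¬ p ∣ R.index := by
    have hle : (pPrimeCore q (G ⧸ V)).comap (QuotientGroup.mk' V) ≤ R := by
      refine CfsgLib.Cores.le_pPrimeCore_of_not_dvd hq ?_
      rw [CfsgLib.Cores.card_comap_mk']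
      exact hq.not_dvd_mul hqV CfsgLib.Cores.not_dvd_card_pPrimeCore
    intro h
    refine hR1 (h.trans ?_)
    rw [← Subgroup.index_comap_of_surjective _ (QuotientGroup.mk'_surjective V)]
    exact Subgroup.index_dvd_of_le hle
  obtain ⟨H0, hH0H, hH0c, hH0d, hH0s, hfr⟩ := exists_frattini_complement V H hVH hVc hcardH
    (coprime_of_pgroup hVp hpm)
  set L := Subgroup.normalizer (H0 : Set G) with hL
  have hH0L : H0 ≤ L := Subgroup.le_normalizer
  have hLconj : ∀ l ∈ L, ∀ h ∈ H0, l * h * l⁻¹ ∈ H0 := fun l hl h hh =>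
    (Subgroup.mem_normalizer_iff.1 hl h).1 hh
  -- `C_V(H0) = 1`
  have hW : V ⊓ Subgroup.centralizer (H0 : Set G) = ⊥ := by
    set W := V ⊓ Subgroup.centralizer (H0 : Set G) with hWd
    by_contra hWne
    have hWn : W.Normal := ⟨fun w hw g => by
      obtain ⟨v, hv, hvg⟩ := hfr g
      have h1 : (v * g) * w * (v * g)⁻¹ ∈ W := by
        refine ⟨hVn.conj_mem w hw.1 _, Subgroup.mem_centralizer_iff.2 fun h hh => ?_⟩
        have h2 := hLconj _ (inv_mem hvg) h hh
        rw [inv_inv] at h2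
        have h3 := Subgroup.mem_centralizer_iff.1 hw.2 _ h2
        calc h * (v * g * w * (v * g)⁻¹)
            = (v * g) * (((v * g)⁻¹ * h * (v * g)) * w) * (v * g)⁻¹ := by group
          _ = (v * g) * (w * ((v * g)⁻¹ * h * (v * g))) * (v * g)⁻¹ := by rw [h3]
          _ = _ := by group
      have e : g * w * g⁻¹ = v⁻¹ * ((v * g) * w * (v * g)⁻¹) * v := by group
      rw [e, hVc v⁻¹ (inv_mem hv) _ h1.1, mul_assoc, inv_mul_cancel, mul_one]
      exact h1⟩
    have hWV : V ≤ W := hVmin ⟨hWn, inf_le_left.trans hVZ, hWne⟩ inf_le_left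
    have hcen : ∀ v ∈ V, v ∈ L := fun v hv => Subgroup.mem_normalizer_iff.2 fun h => by
      have hc := Subgroup.mem_centralizer_iff.1 (hWV hv).2
      refine ⟨fun hh => ?_, fun hh => ?_⟩
      · rw [← hc h hh, mul_inv_cancel_right]; exact hh
      · have h1 := hc _ hh
        rw [show v * h * v⁻¹ * v = v * h by group] at h1
        rwa [← mul_left_cancel h1] at hh
    have hn : H0.Normal := Subgroup.normalizer_eq_top_iff.1 (eq_top_iff.2 fun g _ => by
      obtain ⟨v, hv, hvg⟩ := hfr g
      simpa using mul_mem (inv_mem (hcen v hv)) hvg)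
    have hm1 : m = 1 := by
      have h1 : H0 ≤ ⊥ := hbot ▸ CfsgLib.Cores.le_pPrimeCore_of_not_dvd hp (by rwa [hH0c])
      rw [← hH0c, le_bot_iff.1 h1, Subgroup.card_bot]
    rw [← Subgroup.card_mul_index H, hcardH, hm1, mul_one] at hqG
    exact hq.not_dvd_mul hqV hqH hqG
  have hVL : ∀ v ∈ V, v ∈ L → v = 1 := fun v hv hvL => by
    rw [← Subgroup.mem_bot, ← hW]
    refine ⟨hv, Subgroup.mem_centralizer_iff.2 fun h hh => ?_⟩
    have h1 : v * h * v⁻¹ * h⁻¹ ∈ V ⊓ H0 := ⟨by
      rw [show v * h * v⁻¹ * h⁻¹ = v * (h * v⁻¹ * h⁻¹) by group]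
      exact mul_mem hv (hVn.conj_mem _ (inv_mem hv) h), H0.mul_mem (hLconj v hvL h hh) (H0.inv_mem hh)⟩
    rw [hH0d, Subgroup.mem_bot] at h1
    calc h * v = (v * h * v⁻¹ * h⁻¹) * (h * v) := by rw [h1, one_mul]
      _ = v * h := by group
  have hc : Subgroup.IsComplement' L V := Subgroup.isComplement'_of_disjoint_and_mul_eq_univ
    (Subgroup.disjoint_def.2 fun hl hv => hVL _ hv hl) (Set.eq_univ_iff_forall.2 fun g => by
      obtain ⟨v, hv, hvg⟩ := hfr g
      refine ⟨v * g, hvg, (v * g)⁻¹ * v⁻¹ * (v * g), ?_, by group⟩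
      simpa [mul_assoc] using hVn.conj_mem _ (inv_mem hv) (v * g)⁻¹)
  let e : G ⧸ V ≃* L := hc.QuotientMulEquiv
  let π : G →* L := e.toMonoidHom.comp (QuotientGroup.mk' V)
  have hπs : Function.Surjective π := e.surjective.comp (QuotientGroup.mk'_surjective V)
  have hπ : ∀ g : G, g⁻¹ * (π g : G) ∈ V := fun g => by
    rw [← QuotientGroup.eq]
    exact (e.symm_apply_apply (QuotientGroup.mk g)).symm
  have hπL : ∀ l : L, π (l : G) = l := fun l => Subtype.ext (by
    have h1 := hπ (l : G)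
    exact (inv_mul_eq_one.1 (hVL _ h1 (mul_mem (inv_mem l.2) (π (l : G)).2))).symm)
  have hallL : ∀ χ : IrrCharacter L, ¬ p ∣ charDegree (χ : L → ℂ) →
      ¬ q ∣ charDegree (χ : L → ℂ) := fun χ hd => by
    have h1 := hall ⟨_, isIrrCharacter_comp_of_surjective χ.2 π hπs⟩
    simp only [charDegree, map_one] at h1 hd ⊢
    exact h1 hd
  set HL := H0.subgroupOf L with hHL
  haveI : HL.Normal := Subgroup.normal_in_normalizer
  have hHLc : Nat.card HL = m := by
    rw [hHL, Nat.card_congr (Subgroup.subgroupOfEquivOfLe hH0L).toEquiv, hH0c]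
  set RL := R.subgroupOf L with hRLd
  have hpRL : ¬ p ∣ RL.index := fun h => hpR (h.trans (Subgroup.relIndex_dvd_index_of_normal R L))
  obtain ⟨S⟩ : Nonempty (Sylow p L) := inferInstance
  have hSR : (S : Subgroup L) ≤ RL := pgroup_le_of_not_dvd_index S.2 hpRL
  set K := HL ⊓ RL with hK
  have hpK : ¬ p ∣ Nat.card K := fun h => hpm (hHLc ▸ h.trans (Subgroup.card_dvd_of_le inf_le_left))
  have hqK : ¬ q ∣ Nat.card K := fun h => by
    have h1 := (h.trans (Subgroup.card_dvd_of_le inf_le_right)).trans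
      (Subgroup.card_comap_dvd_of_injective R L.subtype L.subtype_injective)
    exact CfsgLib.Cores.not_dvd_card_pPrimeCore h1
  have hqm : q ∣ m := by
    rw [← Subgroup.card_mul_index H, hcardH] at hqG
    exact ((hq.dvd_mul.1 ((hq.dvd_mul.1 hqG).resolve_right hqH)).resolve_left hqV)
  -- the `q`-section `J / K`
  set M := HL.map (QuotientGroup.mk' K) with hM
  haveI : M.Normal := Subgroup.Normal.map inferInstance _ (QuotientGroup.mk'_surjective K)
  have hMc : M.comap (QuotientGroup.mk' K) = HL := by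
    rw [hM, Subgroup.comap_map_eq, QuotientGroup.ker_mk', sup_eq_left]
    exact inf_le_left
  have hqM : q ∣ Nat.card M := by
    have h1 := CfsgLib.Cores.card_comap_mk' K M
    rw [hMc, hHLc] at h1
    exact (hq.dvd_mul.1 (h1 ▸ hqm)).resolve_left hqK
  haveI : Nontrivial M := by
    rw [← Finite.one_lt_card_iff_nontrivial]
    exact hq.one_lt.trans_le (Nat.le_of_dvd Nat.card_pos hqM)
  have hqsM : IsPSolvable q M := CfsgLib.PSolvable.isPSolvable_subgroup
    (CfsgLib.PSolvable.isPSolvable_quotient (CfsgLib.PSolvable.isPSolvable_subgroup hqs L) K) M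
  have hOq : pCore q M ≠ ⊥ := by
    refine (CfsgLib.PSolvable.core_ne_bot hqsM).resolve_right fun hne => hne ?_
    set Y := (pPrimeCore q M).map M.subtype with hY
    set J' := Y.comap (QuotientGroup.mk' K) with hJ'
    have hJH : J' ≤ HL := hMc ▸ Subgroup.comap_mono (Subgroup.map_subtype_le _)
    haveI : Y.Normal := inferInstance
    haveI : J'.Normal := inferInstance
    have hqJ : ¬ q ∣ Nat.card J' := by
      rw [hJ', CfsgLib.Cores.card_comap_mk', hY,
        Subgroup.card_map_of_injective M.subtype_injective]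
      exact hq.not_dvd_mul hqK CfsgLib.Cores.not_dvd_card_pPrimeCore
    have hN' : J'.comap π ≤ R := by
      refine CfsgLib.Cores.le_pPrimeCore_of_not_dvd hq fun h => ?_
      have h1 := Subgroup.card_mul_index (J'.comap π)
      rw [Subgroup.index_comap_of_surjective _ hπs, ← hc.card_mul_card,
        ← Subgroup.card_mul_index J', mul_right_comm] at h1
      rw [Nat.eq_of_mul_eq_mul_right (Nat.pos_of_ne_zero Subgroup.index_ne_zero_of_finite) h1] at h
      exact hq.not_dvd_mul hqJ hqV h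
    have hJK : J' ≤ K := fun j hj => ⟨hJH hj, hN' (show π (j : G) ∈ J' by rwa [hπL])⟩
    have hY0 : Y = ⊥ := by
      rw [eq_bot_iff]
      intro y hy
      obtain ⟨j, rfl⟩ := QuotientGroup.mk'_surjective K y
      exact Subgroup.mem_bot.2 ((QuotientGroup.eq_one_iff j).2 (hJK hy))
    rwa [hY, Subgroup.map_eq_bot_iff_of_injective _ M.subtype_injective] at hY0
  set Y := (pCore q M).map M.subtype with hY
  haveI : Y.Normal := inferInstance
  set J := Y.comap (QuotientGroup.mk' K) with hJ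
  have hKJ : K ≤ J := QuotientGroup.le_comap_mk' _ _
  have hJH : J ≤ HL := hMc ▸ Subgroup.comap_mono (Subgroup.map_subtype_le _)
  obtain ⟨a, ha⟩ := IsPGroup.iff_card.1 (CfsgLib.Cores.isPGroup_pCore q M)
  have hJc : Nat.card J = Nat.card K * q ^ a := by
    rw [hJ, CfsgLib.Cores.card_comap_mk', hY, Subgroup.card_map_of_injective M.subtype_injective, ha]
  have ha0 : a ≠ 0 := fun h => hOq (Subgroup.eq_bot_of_card_eq _ (by rw [ha, h, pow_zero]))
  have hJrel : K.relIndex J = q ^ a := by
    refine Nat.eq_of_mul_eq_mul_left (Nat.card_pos (α := K)) ?_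
    rw [← hJc, ← Nat.card_congr (Subgroup.subgroupOfEquivOfLe hKJ).toEquiv]
    exact Subgroup.card_mul_index _
  have hpJ : ¬ p ∣ Nat.card J := fun h => hpm (hHLc ▸ h.trans (Subgroup.card_dvd_of_le hJH))
  have hnormJ : (S : Subgroup L) ≤ Subgroup.normalizer (J : Set L) := by
    rw [Subgroup.normalizer_eq_top]; exact le_top
  have hsolvS : Group.IsSolvable (S : Subgroup L) := by
    haveI := S.2.isNilpotent
    infer_instance
  obtain ⟨Q0', hQ0⟩ := CfsgLib.CoprimeAction.exists_invariant_sylow hnormJ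
    (coprime_of_pgroup S.2 hpJ) (Or.inl hsolvS) q
  set Q0 := (Q0' : Subgroup J).map J.subtype with hQ0d
  have hQ0J : Q0 ≤ J := Subgroup.map_subtype_le _
  have hQ0q : IsPGroup q Q0 := Q0'.2.map _
  have hqJ : q ∣ Nat.card J := hJc ▸ dvd_mul_of_dvd_right (dvd_pow_self q ha0) _
  have hQ0ne : Q0 ≠ ⊥ := by
    rw [hQ0d, Ne, Subgroup.map_eq_bot_iff_of_injective _ J.subtype_injective]
    exact Q0'.ne_bot_of_dvd_card hqJ
  have hcomm : ∀ s ∈ (S : Subgroup L), ∀ x ∈ Q0, s * x = x * s := by
    intro s hs x hx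
    have h1 : s * x * s⁻¹ * x⁻¹ ∈ Q0 :=
      mul_mem ((Subgroup.mem_normalizer_iff.1 (hQ0 hs) x).1 hx) (inv_mem hx)
    have h2 : s * x * s⁻¹ * x⁻¹ ∈ RL := by
      rw [show s * x * s⁻¹ * x⁻¹ = s * (x * s⁻¹ * x⁻¹) by group]
      exact mul_mem (hSR hs) ((inferInstance : RL.Normal).conj_mem _ (inv_mem (hSR hs)) x)
    have h3 : orderOf (s * x * s⁻¹ * x⁻¹) = 1 := Nat.eq_one_of_dvd_coprimes
      (coprime_of_pgroup hQ0q hqK) (Subgroup.orderOf_dvd_natCard _ h1)
      (Subgroup.orderOf_dvd_natCard _ (show s * x * s⁻¹ * x⁻¹ ∈ K from ⟨hJH (hQ0J h1), h2⟩))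
    rw [orderOf_eq_one_iff] at h3
    calc s * x = (s * x * s⁻¹ * x⁻¹) * (x * s) := by group
      _ = x * s := by rw [h3, one_mul]
  have hqord : ∀ x ∈ Q0, ∃ k, x ^ q ^ k = 1 := fun x hx => by
    obtain ⟨k, hk⟩ := (hQ0q ⟨x, hx⟩)
    exact ⟨k, congrArg Subtype.val hk⟩
  -- `Q0` centralizes `C_K(S)`
  have hC : ∀ x ∈ Q0, ∀ c ∈ K ⊓ Subgroup.centralizer ((S : Subgroup L) : Set L),
      x * c = c * x := by
    intro x hx
    refine commute_fixedPoints_of_fix_invariant K (S : Subgroup L) S.2 hpK hqK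
      (fun s hs => hcomm s hs x hx) (hqord x hx) fun θ hθ => ?_
    set T := inertia K (θ : K → ℂ) with hT
    have hKT : K ≤ T := le_inertia K (IsIrrCharacter.isClassFunction θ.2)
    have hST : (S : Subgroup L) ≤ T := fun s hs => by
      rw [hT, mem_inertia, conjChar_eq_comp]
      exact funext (hθ s hs)
    set U := K ⊔ (S : Subgroup L) with hU
    have hrel : (Nat.card K).Coprime (K.relIndex U) := by
      refine ((coprime_of_pgroup S.2 hpK).coprime_dvd_left ?_).symm
      rw [hU, Subgroup.relIndex_sup_left]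
      exact Subgroup.index_dvd_card _
    obtain ⟨μ, hμ, hres⟩ := exists_extension_coprime_le (U := U) le_sup_left hrel θ.2
      (fun g hg n => by
        have h1 := (mem_inertia K _ g).1 (sup_le hKT hST hg)
        rw [conjChar_eq_comp] at h1
        exact congrFun h1 n)
    have hdθ : ¬ p ∣ charDegree (θ : K → ℂ) := by
      obtain ⟨d, -, hd, hd1⟩ := IsIrrCharacter.exists_degree_dvd θ.2
      have : charDegree (θ : K → ℂ) = d := by simp [charDegree, hd1]
      rw [this]
      exact fun h => hpK (h.trans hd)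
    haveI := Fintype.ofFinite K
    have hTq := not_dvd_index_inertia hp hallL (U := U) le_sup_left
      (fun h => S.not_dvd_index (h.trans (Subgroup.index_dvd_of_le le_sup_right))) hμ θ.2 hres hdθ T
      (fun g => mem_inertia K _ g)
    have hJT : J ≤ T := by
      rw [← Subgroup.relIndex_eq_one]
      exact Nat.eq_one_of_dvd_coprimes ((hq.coprime_iff_not_dvd.2 hTq).pow_left a)
        (hJrel ▸ Subgroup.relIndex_dvd_of_le_left J hKT) (relIndex_dvd_index_of_normal_right T)
    intro n
    have h1 := (mem_inertia K _ x).1 (hJT (hQ0J hx))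
    rw [conjChar_eq_comp] at h1
    exact congrFun h1 n
  -- elements centralizing `S` inside `J` normalize `Q0`
  have hnorm0 : ∀ c ∈ J, c ∈ Subgroup.centralizer ((S : Subgroup L) : Set L) →
      c ∈ Subgroup.normalizer (Q0 : Set L) := by
    intro c hcJ hcS
    have hsupJ : K ⊔ Q0 = J := by
      refine Subgroup.eq_of_le_of_card_ge (sup_le hKJ hQ0J) (Nat.le_of_dvd Nat.card_pos ?_)
      have hcQ : Nat.card Q0 = q ^ a := by
        rw [hQ0d, Subgroup.card_map_of_injective J.subtype_injective, Q0'.card_eq_multiplicity, hJc,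
          Nat.factorization_mul Nat.card_pos.ne' (pow_ne_zero _ hq.ne_zero), Finsupp.coe_add,
          Pi.add_apply, Nat.factorization_eq_zero_of_not_dvd hqK, hq.factorization_pow,
          Finsupp.single_eq_same, zero_add]
      rw [hJc, ← hcQ]
      exact (coprime_of_pgroup hQ0q hqK).symm.mul_dvd_of_dvd_of_dvd
        (Subgroup.card_dvd_of_le le_sup_left) (Subgroup.card_dvd_of_le le_sup_right)
    rw [← hsupJ, ← SetLike.mem_coe, Subgroup.normal_mul] at hcJ
    obtain ⟨k, hk, x, hx, rfl⟩ := hcJ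
    have hkC : k ∈ K ⊓ Subgroup.centralizer ((S : Subgroup L) : Set L) := ⟨hk, by
      have h1 : x ∈ Subgroup.centralizer ((S : Subgroup L) : Set L) :=
        Subgroup.mem_centralizer_iff.2 fun s hs => hcomm s hs x hx
      simpa using mul_mem hcS (inv_mem h1)⟩
    refine mul_mem ?_ (Subgroup.le_normalizer hx)
    refine Subgroup.mem_normalizer_iff.2 fun y => ⟨fun hy => ?_, fun hy => ?_⟩
    · rwa [← hC y hy k hkC, mul_inv_cancel_right]
    · have h1 := hC _ hy k hkC
      rw [show k * y * k⁻¹ * k = k * y by group] at h1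
      rwa [← mul_left_cancel h1] at hy
  -- `Q0` fixes the `S`-invariant linear characters of `V`
  have hlin : ∀ l : V →* ℂˣ,
      (∀ s ∈ (S : Subgroup L), ∀ v : V, l (MulAut.conjNormal ((s : L) : G) v) = l v) →
      ∀ x ∈ Q0, ∀ v : V, l (MulAut.conjNormal ((x : L) : G) v) = l v := by
    intro l hl x hx
    haveI := Fintype.ofFinite V
    set A := (S : Subgroup L).map L.subtype with hA
    have hd : Disjoint V A := Subgroup.disjoint_def.2 fun hv ha =>
      hVL _ hv (Subgroup.map_subtype_le _ ha)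
    obtain ⟨μ, hμ⟩ := exists_hom_extension hd l (by rintro _ ⟨s, hs, rfl⟩ v; exact hl s hs v)
    have hθ : IsIrrCharacter V (fun v => (l v : ℂ)) := isIrrCharacter_linear l
    have hidx : ¬ p ∣ (V ⊔ A).index := by
      have : (S : Subgroup L).comap π ≤ V ⊔ A := fun g hg => by
        have h1 := hπ g
        have h2 : (π g : G) ∈ A := ⟨π g, hg, rfl⟩
        rw [show g = (π g : G) * (g⁻¹ * (π g : G))⁻¹ by group]
        exact mul_mem (Subgroup.mem_sup_right h2) (Subgroup.mem_sup_left (inv_mem h1))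
      intro h
      refine S.not_dvd_index ?_
      rw [← Subgroup.index_comap_of_surjective _ hπs]
      exact h.trans (Subgroup.index_dvd_of_le this)
    set T := inertia V (fun v => (l v : ℂ)) with hT
    have hTq := not_dvd_index_inertia hp hall (U := V ⊔ A) le_sup_left hidx
      (isIrrCharacter_linear μ) hθ (fun v => congrArg Units.val (hμ v))
      (by simp [charDegree, hp.ne_one]) T (fun g => mem_inertia V _ g)
    set TL := T.subgroupOf L with hTL
    have hTLq : ¬ q ∣ TL.index := by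
      have hVT : V ≤ T := le_inertia V (IsIrrCharacter.isClassFunction hθ)
      have : T = TL.comap π := by
        ext g
        rw [Subgroup.mem_comap, hTL, Subgroup.mem_subgroupOf]
        have h1 := hVT (hπ g)
        refine ⟨fun hg => by simpa using mul_mem hg h1, fun hg => ?_⟩
        simpa using mul_mem hg (inv_mem h1)
      rwa [this, Subgroup.index_comap_of_surjective _ hπs] at hTq
    have hSTL : (S : Subgroup L) ≤ TL := fun s hs => by
      rw [hTL, Subgroup.mem_subgroupOf, hT, mem_inertia, conjChar_eq_comp]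
      exact funext fun v => congrArg Units.val (hl s hs v)
    set S' := TL ⊓ J with hS'
    have hnS : (S : Subgroup L) ≤ Subgroup.normalizer (S' : Set L) := fun s hs =>
      Subgroup.mem_normalizer_iff.2 fun y => ⟨fun hy => ⟨TL.mul_mem (TL.mul_mem (hSTL hs) hy.1)
        (TL.inv_mem (hSTL hs)), (inferInstance : J.Normal).conj_mem _ hy.2 s⟩, fun hy => ⟨by
        simpa [mul_assoc] using mul_mem (mul_mem (inv_mem (hSTL hs)) hy.1) (hSTL hs), by
        simpa [mul_assoc] using (inferInstance : J.Normal).conj_mem _ hy.2 s⁻¹⟩⟩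
    have hpS' : ¬ p ∣ Nat.card S' := fun h => hpJ (h.trans (Subgroup.card_dvd_of_le inf_le_right))
    obtain ⟨Q1', hQ1⟩ := CfsgLib.CoprimeAction.exists_invariant_sylow hnS
      (coprime_of_pgroup S.2 hpS') (Or.inl hsolvS) q
    set Q1 := (Q1' : Subgroup S').map S'.subtype with hQ1d
    have hQ1J : Q1 ≤ J := (Subgroup.map_subtype_le _).trans inf_le_right
    have hcard : Nat.card (Q1.subgroupOf J) = q ^ (Nat.card J).factorization q := by
      have h1 : Nat.card S' * TL.relIndex J = Nat.card J := by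
        rw [← Subgroup.inf_relIndex_right, hS',
          ← Nat.card_congr (Subgroup.subgroupOfEquivOfLe (inf_le_right : TL ⊓ J ≤ J)).toEquiv]
        exact Subgroup.card_mul_index _
      have h2 : ¬ q ∣ TL.relIndex J := fun h => hTLq (h.trans (relIndex_dvd_index_of_normal_right TL))
      rw [Nat.card_congr (Subgroup.subgroupOfEquivOfLe hQ1J).toEquiv, hQ1d,
        Subgroup.card_map_of_injective S'.subtype_injective, Q1'.card_eq_multiplicity, ← h1,
        Nat.factorization_mul Nat.card_pos.ne' (show TL.relIndex J ≠ 0 from (TL.subgroupOf J).index_ne_zero_of_finite),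
        Finsupp.coe_add, Pi.add_apply, Nat.factorization_eq_zero_of_not_dvd h2, add_zero]
    let QJ : Sylow q J := Sylow.ofCard (Q1.subgroupOf J) hcard
    have hQJ : (QJ : Subgroup J).map J.subtype = Q1 := Subgroup.map_subgroupOf_eq_of_le hQ1J
    obtain ⟨c, hcS, hcQ⟩ := CfsgLib.CoprimeAction.invariant_sylow_conj hnormJ
      (coprime_of_pgroup S.2 hpJ) (Or.inl hsolvS) Q0' QJ hQ0 (hQJ.symm ▸ hQ1)
    have heq : Q1 = Q0 := by
      have h1 := congrArg (fun Z : Sylow q J => (Z : Subgroup J).map J.subtype) hcQ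
      rw [show ((MulAut.conj c • Q0' : Sylow q J) : Subgroup J) = MulAut.conj c • (Q0' : Subgroup J) from rfl,
        CfsgLib.CoprimeAction.map_conj_subtype, hQJ] at h1
      rw [← h1]
      exact CfsgLib.CoprimeAction.conj_smul_eq_self.2 (hnorm0 _ c.2 hcS)
    have hxT : (x : G) ∈ T := by
      have h1 : x ∈ S' := Subgroup.map_subtype_le _ (heq.symm ▸ hx : x ∈ Q1)
      exact h1.1
    intro v
    rw [hT, mem_inertia, conjChar_eq_comp] at hxT
    exact Units.ext (congrFun hxT v)
  -- hence `Q0` centralizes `V`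
  have hcentV : ∀ x ∈ Q0, ∀ v ∈ V, (x : G) * v = v * (x : G) := by
    intro x hx
    letI : CommGroup V := { (inferInstance : Group V) with
      mul_comm := fun a b => Subtype.ext (hVc a a.2 b b.2) }
    let cg : L → (V →* ℂˣ) → (V →* ℂˣ) := fun y l =>
      l.comp (MulAut.conjNormal (H := V) ((y : L) : G)).toMonoidHom
    have hcg : ∀ y l v, cg y l v = l (MulAut.conjNormal ((y : L) : G) v) := fun y l v => rfl
    let δ : (V →* ℂˣ) →* (V →* ℂˣ) := MonoidHom.mk' (fun l => cg x l * l⁻¹) fun l l' => by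
      ext v
      simp [hcg]
      ring
    suffices hδ : ∀ l, δ l = 1 by
      intro v hv
      have h1 : MulAut.conjNormal ((x : L) : G) (⟨v, hv⟩ : V) = ⟨v, hv⟩ := by
        by_contra hne
        haveI : NeZero (Monoid.exponent V) := ⟨Monoid.exponent_ne_zero_of_finite⟩
        obtain ⟨φ, hφ⟩ := CommGroup.exists_apply_ne_one_of_hasEnoughRootsOfUnity V ℂ
          (a := MulAut.conjNormal ((x : L) : G) (⟨v, hv⟩ : V) * (⟨v, hv⟩ : V)⁻¹)
          (fun h => hne (mul_inv_eq_one.1 h))
        refine hφ ?_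
        rw [map_mul, map_inv]
        exact DFunLike.congr_fun (hδ φ) (⟨v, hv⟩ : V)
      have h2 := congrArg Subtype.val h1
      rw [MulAut.conjNormal_apply] at h2
      exact mul_inv_eq_iff_eq_mul.1 h2
    intro l
    by_contra hne
    haveI : Finite (V →* ℂˣ) := Finite.of_equiv _ linearEquivHom
    have hpow : ∀ l : V →* ℂˣ, l ^ p ^ nV = 1 := fun l => MonoidHom.ext fun v => by
      rw [MonoidHom.pow_apply, ← map_pow, ← hnV, pow_card_eq_one', map_one, MonoidHom.one_apply]
    have hDp : IsPGroup p δ.range := fun w => ⟨nV, Subtype.ext (hpow w.1)⟩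
    haveI : Nontrivial δ.range := nontrivial_of_ne ⟨δ l, l, rfl⟩ 1 fun h => hne (congrArg Subtype.val h)
    have hδS : ∀ (s : (S : Subgroup L)) (w : V →* ℂˣ), w ∈ δ.range →
        cg ((s : L)⁻¹) w ∈ δ.range := by
      rintro s w ⟨l', rfl⟩
      refine ⟨cg ((s : L)⁻¹) l', MonoidHom.ext fun v => ?_⟩
      show cg x (cg ((s : L)⁻¹) l') v * (cg ((s : L)⁻¹) l' v)⁻¹ =
        cg x l' (MulAut.conjNormal (((s : L)⁻¹ : L) : G) v) *
          (l' (MulAut.conjNormal (((s : L)⁻¹ : L) : G) v))⁻¹
      simp only [hcg]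
      rw [← MulAut.mul_apply, ← map_mul, ← Subgroup.coe_mul,
        hcomm _ (inv_mem s.2) x hx, Subgroup.coe_mul, map_mul, MulAut.mul_apply]
    letI : MulAction (S : Subgroup L) δ.range :=
      { smul := fun s w => ⟨cg ((s : L)⁻¹) w.1, hδS s w.1 w.2⟩
        one_smul := fun w => Subtype.ext (MonoidHom.ext fun v => by
          show w.1 (MulAut.conjNormal ((((1 : (S : Subgroup L)) : L)⁻¹ : L) : G) v) = w.1 v
          simp)
        mul_smul := fun s t w => Subtype.ext (MonoidHom.ext fun v => by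
          show w.1 (MulAut.conjNormal ((((s * t : (S : Subgroup L)) : L)⁻¹ : L) : G) v) =
            w.1 (MulAut.conjNormal (((t : L)⁻¹ : L) : G) (MulAut.conjNormal (((s : L)⁻¹ : L) : G) v))
          rw [← MulAut.mul_apply, ← map_mul, ← Subgroup.coe_mul, Subgroup.coe_mul _ s t, mul_inv_rev]) }
    have h1fix : (1 : δ.range) ∈ MulAction.fixedPoints (S : Subgroup L) δ.range := fun s =>
      Subtype.ext (MonoidHom.ext fun v => rfl)
    obtain ⟨⟨w, l', hl'⟩, hwfix, hw1⟩ :=
      S.2.exists_fixed_point_of_prime_dvd_card_of_fixed_point δ.range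
        (hDp.card_eq_or_dvd.resolve_left (Finite.one_lt_card (α := δ.range)).ne') h1fix
    have hwS : ∀ s ∈ (S : Subgroup L), ∀ v : V, w (MulAut.conjNormal ((s : L) : G) v) = w v := by
      intro s hs v
      have : w (MulAut.conjNormal (((s⁻¹)⁻¹ : L) : G) v) = w v :=
        DFunLike.congr_fun (congrArg Subtype.val (hwfix ⟨s⁻¹, inv_mem hs⟩)) v
      rwa [inv_inv] at this
    have hwx := hlin w hwS x hx
    have hit : ∀ (n : ℕ) (v : V), cg (x ^ n) l' v = l' v * w v ^ n := by
      intro n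
      induction n with
      | zero => intro v; simp [hcg]
      | succ n ih =>
        intro v
        rw [hcg, pow_succ, Subgroup.coe_mul, map_mul, MulAut.mul_apply, ← hcg, ih, hwx, pow_succ]
        have h3 : l' (MulAut.conjNormal ((x : L) : G) v) = w v * l' v := by
          rw [← hl']
          show _ = cg x l' v * (l' v)⁻¹ * l' v
          rw [inv_mul_cancel_right, hcg]
        rw [h3]
        ac_rfl
    obtain ⟨k, hk⟩ := hqord x hx
    refine hw1 (Subtype.ext (MonoidHom.ext fun v => ?_))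
    show (1 : ℂˣ) = w v
    have h1 : w v ^ q ^ k = 1 := by
      have := hit (q ^ k) v
      rw [hk, hcg] at this
      simpa using this
    refine (orderOf_eq_one_iff.1 (Nat.eq_one_of_dvd_coprimes
      (((Nat.coprime_primes hq hp).2 hpq.symm).pow k nV) (orderOf_dvd_of_pow_eq_one h1)
      (orderOf_dvd_of_pow_eq_one ?_))).symm
    simpa using DFunLike.congr_fun (hpow w) v
  -- contradiction
  obtain ⟨x, hx, hx1⟩ : ∃ x ∈ Q0, x ≠ 1 := by
    by_contra hcon
    push Not at hcon
    exact hQ0ne ((Subgroup.eq_bot_iff_forall _).2 hcon)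
  set Z := H0 ⊓ Subgroup.centralizer (V : Set G) with hZ
  have hZn : Z.Normal := ⟨fun z hz g => by
    obtain ⟨v, hv, hvg⟩ := hfr g
    have hcv := Subgroup.mem_centralizer_iff.1 hz.2
    have h1 : (v * g) * z * (v * g)⁻¹ ∈ Z := ⟨hLconj _ hvg z hz.1,
      (inferInstance : (Subgroup.centralizer (V : Set G)).Normal).conj_mem z hz.2 _⟩
    have h2 := Subgroup.mem_centralizer_iff.1 h1.2 v⁻¹ (inv_mem hv)
    have e : g * z * g⁻¹ = v⁻¹ * ((v * g) * z * (v * g)⁻¹) * v := by group
    rw [e, h2, mul_assoc, inv_mul_cancel, mul_one]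
    exact h1⟩
  have hZ1 : Z ≤ ⊥ := hbot ▸ CfsgLib.Cores.le_pPrimeCore_of_not_dvd hp
    fun h => hpm (hH0c ▸ h.trans (Subgroup.card_dvd_of_le inf_le_left))
  exact hx1 (Subtype.ext (Subgroup.mem_bot.1 (hZ1 ⟨hJH (hQ0J hx),
    Subgroup.mem_centralizer_iff.2 fun v hv => (hcentV x hx v hv).symm⟩)))

/-- Both conclusions. -/
theorem not_dvd_index_pPrimeCore.{v} {G : Type v} [Group G] [Finite G] {p q : ℕ} [Fact p.Prime]
    [Fact q.Prime] (hpq : p ≠ q) (hps : IsPSolvable p G) (hqs : IsPSolvable q G)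
    (hP : PrimeToDegrees p q G) (hQ : PrimeToDegrees q p G) :
    ¬ q ∣ (pPrimeCore p G).index ∧ ¬ p ∣ (pPrimeCore q G).index := by
  induction hn : Nat.card G using Nat.strong_induction_on generalizing G with
  | h n ih =>
    subst hn
    have key : ∀ (N : Subgroup G) [N.Normal], N ≠ ⊥ →
        ¬ q ∣ (pPrimeCore p (G ⧸ N)).index ∧ ¬ p ∣ (pPrimeCore q (G ⧸ N)).index := fun N _ hN => by
      refine ih _ ?_ (CfsgLib.PSolvable.isPSolvable_quotient hps N)
        (CfsgLib.PSolvable.isPSolvable_quotient hqs N) (hP.quotient N) (hQ.quotient N) rfl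
      rw [Subgroup.card_eq_card_quotient_mul_card_subgroup N]
      exact lt_mul_of_one_lt_right Nat.card_pos (N.one_lt_card_iff_ne_bot.2 hN)
    exact ⟨not_dvd_index_step hpq hps hqs hP key,
      not_dvd_index_step hpq.symm hqs hps hQ fun N _ hN => (key N hN).symm⟩

end CfsgLib.Correspondences
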