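import Mathlib
import Cfsg.Prelude.Def_Blocks
import Cfsg.Agent.Lib.CharTheory.Linear
import Cfsg.Agent.Lib.CharTheory.Inflation
import Cfsg.Agent.Lib.CharTheory.Ito
import Cfsg.Agent.Lib.Clifford.Basic
import Cfsg.Agent.Lib.CoprimeAction.Basic
import Cfsg.Agent.Lib.BlockLocal.NormalInduce
import Cfsg.Agent.Lib.Correspondences.CharKer

/-!
Vanishing elements from coprime action of commuting `p`-elements: regular vectors of abelian
coprime automorphism groups and the lifting to characters of a solvable normal `p'`-subgroup.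
-/

set_option autoImplicit false
set_option linter.style.haveILetI false
set_option linter.unusedSectionVars false

namespace CfsgLib.Correspondences

open Cfsg CfsgLib.CharTheory
open scoped commutatorElement

universe u v

/-- A coprime abelian group of automorphisms of a finite abelian group has a regular vector. -/
theorem exists_regular_vector {A : Type v} [CommGroup A] [Finite A] :
    ∀ (n : ℕ) (D : Type u) [CommGroup D] [Finite D] (ρ : A →* MulAut D), Nat.card D = n →
      (Nat.card A).Coprime (Nat.card D) → ∃ d : D, ∀ a, ρ a d = d → ρ a = 1 := by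
  intro n
  induction n using Nat.strong_induction_on with
  | _ n ih =>
    intro D _ _ ρ hn hcop
    classical
    by_cases hfree : ∀ a, ρ a ≠ 1 → ∀ d, ρ a d = d → d = 1
    · by_cases hD : ∀ d : D, d = 1
      · exact ⟨1, fun a _ => MulEquiv.ext fun d => (hD _).trans (hD d).symm⟩
      · push Not at hD
        obtain ⟨d, hd⟩ := hD
        exact ⟨d, fun a ha => by_contra fun h => hd (hfree a h d ha)⟩
    push Not at hfree
    obtain ⟨a, ha, d0, hd0, hd01⟩ := hfree
    let o := orderOf a
    have hcomm : ∀ (b : A) (i : ℕ) (x : D), ρ b ((ρ a ^ i) x) = (ρ a ^ i) (ρ b x) := fun b i x => by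
      rw [← map_pow, ← MulAut.mul_apply, ← MulAut.mul_apply, ← map_mul, ← map_mul, mul_comm]
    let C : Subgroup D :=
      { carrier := {d | ρ a d = d}
        one_mem' := map_one _
        mul_mem' := fun {x y} hx hy => show ρ a (x * y) = x * y by rw [map_mul, hx, hy]
        inv_mem' := fun {x} hx => show ρ a x⁻¹ = x⁻¹ by rw [map_inv, hx] }
    let π : D →* D := ∏ i ∈ Finset.range o, (ρ a ^ i : MulAut D).toMonoidHom
    have hπ : ∀ x, π x = ∏ i ∈ Finset.range o, (ρ a ^ i) x := fun x => by
      simp [π, MonoidHom.finsetProd_apply]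
    have hπC : ∀ x, π x ∈ C := by
      intro x
      show ρ a (π x) = π x
      rw [hπ, map_prod]
      have h1 : ∀ i, ρ a ((ρ a ^ i) x) = (ρ a ^ (i + 1)) x := fun i => by
        rw [pow_succ', MulAut.mul_apply]
      simp only [h1]
      have h2 := Finset.prod_range_succ' (fun i => (ρ a ^ i) x) o
      rw [Finset.prod_range_succ] at h2
      have h3 : (ρ a ^ o) x = (ρ a ^ 0) x := by
        rw [← map_pow, pow_orderOf_eq_one, map_one, pow_zero]
      rw [h3] at h2
      exact (mul_right_cancel h2).symm
    have hπfix : ∀ x ∈ C, π x = x ^ o := by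
      intro x hx
      have : ∀ i, (ρ a ^ i) x = x := fun i => by
        induction i with
        | zero => rfl
        | succ i hi => rw [pow_succ, MulAut.mul_apply, show ρ a x = x from hx, hi]
      rw [hπ, Finset.prod_congr rfl (fun i _ => this i), Finset.prod_const, Finset.card_range]
    have hocop : (Nat.card D).Coprime o := (hcop.coprime_dvd_left (orderOf_dvd_natCard a)).symm
    let K := π.ker
    have hCK : ∀ x ∈ C, x ∈ K → x = 1 := fun x hx hxK => by
      have h : x ^ o = 1 := (hπfix x hx).symm.trans hxK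
      exact (powCoprime hocop).injective (show x ^ o = 1 ^ o by rw [h, one_pow])
    have hsplit : ∀ x : D, ∃ c ∈ C, c⁻¹ * x ∈ K := by
      intro x
      obtain ⟨k, hk⟩ := exists_pow_eq_self_of_coprime (n := o) (x := π x)
        (hocop.coprime_dvd_left (orderOf_dvd_natCard _)).symm
      refine ⟨π x ^ k, pow_mem (hπC x) k, ?_⟩
      rw [MonoidHom.mem_ker, map_mul, map_inv, hπfix _ (pow_mem (hπC x) k), ← pow_mul, mul_comm k o,
        pow_mul, hk, inv_mul_cancel]
    have hCinv : ∀ (b : A), ∀ x ∈ C, ρ b x ∈ C := fun b x hx => by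
      show ρ a (ρ b x) = ρ b x
      have := hcomm b 1 x
      rw [pow_one] at this
      rw [← this, show ρ a x = x from hx]
    have hKinv : ∀ (b : A), ∀ x ∈ K, ρ b x ∈ K := fun b x hx => by
      rw [MonoidHom.mem_ker, hπ, Finset.prod_congr rfl (fun i _ => (hcomm b i x).symm), ← map_prod,
        ← hπ, MonoidHom.mem_ker.1 hx, map_one]
    let res : ∀ (S : Subgroup D), (∀ (b : A), ∀ x ∈ S, ρ b x ∈ S) → (A →* MulAut S) := fun S hS =>
      { toFun := fun b =>
          { toFun := fun x => ⟨ρ b x, hS b x x.2⟩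
            invFun := fun x => ⟨ρ b⁻¹ x, hS b⁻¹ x x.2⟩
            left_inv := fun x => Subtype.ext (by simp)
            right_inv := fun x => Subtype.ext (by simp)
            map_mul' := fun x y => Subtype.ext (map_mul _ _ _) }
        map_one' := MulEquiv.ext fun x => Subtype.ext (by simp)
        map_mul' := fun b c => MulEquiv.ext fun x => Subtype.ext (by simp) }
    have hlt : ∀ S : Subgroup D, S ≠ ⊤ → Nat.card S < n := fun S hS => by
      rw [← hn]
      exact lt_of_le_of_ne (Nat.le_of_dvd Nat.card_pos (Subgroup.card_subgroup_dvd_card S))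
        fun h => hS (Subgroup.eq_top_of_card_eq S h)
    have hCtop : C ≠ ⊤ := fun h => ha (MulEquiv.ext fun x =>
      (by have h' : x ∈ C := (by rw [h]; exact Subgroup.mem_top x); exact h' : ρ a x = x))
    have hKtop : K ≠ ⊤ := fun h => hd01 (hCK d0 hd0 (h.symm ▸ Subgroup.mem_top d0))
    obtain ⟨dC, hdC⟩ := ih _ (hlt C hCtop) C (res C hCinv) rfl
      (hcop.coprime_dvd_right (Subgroup.card_subgroup_dvd_card C))
    obtain ⟨dK, hdK⟩ := ih _ (hlt K hKtop) K (res K hKinv) rfl
      (hcop.coprime_dvd_right (Subgroup.card_subgroup_dvd_card K))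
    refine ⟨(dC : D) * dK, fun b hb => ?_⟩
    rw [map_mul] at hb
    have h1 : (dC : D)⁻¹ * ρ b dC = dK * (ρ b dK)⁻¹ := by
      rw [inv_mul_eq_iff_eq_mul, ← mul_assoc, eq_mul_inv_iff_mul_eq]
      exact hb
    have h2 : (dC : D)⁻¹ * ρ b dC = 1 :=
      hCK _ (C.mul_mem (C.inv_mem dC.2) (hCinv b _ dC.2))
        (h1 ▸ K.mul_mem dK.2 (K.inv_mem (hKinv b _ dK.2)))
    have h3 : ρ b dC = (dC : D) := (inv_mul_eq_one.1 h2).symm
    have h4 : ρ b dK = (dK : D) := by
      rw [h3] at hb
      exact mul_left_cancel hb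
    have e1 := hdC b (Subtype.ext h3)
    have e2 := hdK b (Subtype.ext h4)
    refine MulEquiv.ext fun x => ?_
    obtain ⟨c, hc, hk⟩ := hsplit x
    have f1 : ρ b c = c := congrArg Subtype.val (DFunLike.congr_fun e1 ⟨c, hc⟩)
    have f2 : ρ b (c⁻¹ * x) = c⁻¹ * x := congrArg Subtype.val (DFunLike.congr_fun e2 ⟨_, hk⟩)
    show ρ b x = x
    rw [map_mul, map_inv, f1] at f2
    exact mul_left_cancel f2

/-- A commutator of order prime to that of `x` with `x` centralizing it is trivial. -/
theorem commute_of_commutator_commute {X : Type*} [Group X] {e f c : X} (hc : e * f * e⁻¹ = c * f)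
    (hec : Commute e c) {n m : ℕ} (he : e ^ n = 1) (hm : c ^ m = 1) (hcop : Nat.Coprime n m) :
    Commute e f := by
  have h : ∀ i : ℕ, e ^ i * f * (e ^ i)⁻¹ = c ^ i * f := by
    intro i
    induction i with
    | zero => simp
    | succ i ih =>
      calc e ^ (i + 1) * f * (e ^ (i + 1))⁻¹ = e * (e ^ i * f * (e ^ i)⁻¹) * e⁻¹ := by
            rw [pow_succ']; group
        _ = e * c ^ i * e⁻¹ * (e * f * e⁻¹) := by rw [ih]; group
        _ = c ^ (i + 1) * f := by
            rw [(hec.pow_right i).eq, mul_inv_cancel_right, hc, pow_succ]; group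
  have h1 := h n
  rw [he, one_mul, inv_one, mul_one] at h1
  have hcn : c ^ n = 1 := mul_eq_right.1 h1.symm
  have hc1 : c = 1 := orderOf_eq_one_iff.1 (Nat.eq_one_of_dvd_coprimes hcop
    (orderOf_dvd_of_pow_eq_one hcn) (orderOf_dvd_of_pow_eq_one hm))
  rw [hc1, one_mul] at hc
  exact mul_inv_eq_iff_eq_mul.1 hc

/-- A `p`-element `x`, commuting with its conjugates modulo a solvable normal `p'`-subgroup `M`
that it does not centralize, moves some irreducible character of `M` together with all its
conjugates. -/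
theorem exists_moved_character {p : ℕ} [hp : Fact p.Prime] :
    ∀ (n : ℕ) (G : Type u) [Group G] [Finite G] (M : Subgroup G) [M.Normal] (x : G),
      Nat.card G = n → Group.IsSolvable M → ¬ p ∣ Nat.card M → (∃ k, orderOf x = p ^ k) →
      (∀ g, ⁅x, g * x * g⁻¹⁆ ∈ M) → x ∉ Subgroup.centralizer (M : Set G) →
      ∃ θ : IrrCharacter M, ∀ g, g * x * g⁻¹ ∉ inertia M (θ : M → ℂ) := by
  intro n
  induction n using Nat.strong_induction_on with
  | _ n ih =>
    intro G _ _ M hMn x hn hsol hMp hx hcomm hxM
    classical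
    haveI := Fintype.ofFinite G
    haveI := Fintype.ofFinite M
    obtain ⟨k, hk⟩ := hx
    have hMne : M ≠ ⊥ := fun h => hxM (Subgroup.mem_centralizer_iff.2 fun y hy => by
      rw [h] at hy
      rw [Subgroup.mem_bot.1 hy, one_mul, mul_one])
    -- a nontrivial abelian normal subgroup of `G` inside `M`
    obtain ⟨N, hNn, hNM, hNne, hNab⟩ : ∃ N : Subgroup G, N.Normal ∧ N ≤ M ∧ N ≠ ⊥ ∧
        ∀ a ∈ N, ∀ b ∈ N, a * b = b * a := by
      obtain ⟨m, hm⟩ := (Group.isSolvable_def M).1 hsol
      haveI : Nontrivial M := (Subgroup.nontrivial_iff_ne_bot M).2 hMne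
      have hex : ∃ j : ℕ, derivedSeries M j ≠ ⊥ ∧ derivedSeries M (j + 1) = ⊥ := by
        by_contra hall
        push Not at hall
        have : ∀ j, derivedSeries M j ≠ ⊥ := by
          intro j
          induction j with
          | zero => rw [derivedSeries_zero]; exact top_ne_bot
          | succ j ihj => exact hall j ihj
        exact this m hm
      obtain ⟨j, hj1, hj2⟩ := hex
      haveI : (derivedSeries M j).Characteristic := by
        clear hj1 hj2
        induction j with
        | zero => rw [derivedSeries_zero]; infer_instance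
        | succ j ihj => haveI := ihj; rw [derivedSeries_succ]; infer_instance
      refine ⟨(derivedSeries M j).map M.subtype, inferInstance, Subgroup.map_subtype_le _, ?_, ?_⟩
      · rwa [Ne, Subgroup.map_eq_bot_iff_of_injective _ M.subtype_injective]
      · rintro _ ⟨a, ha, rfl⟩ _ ⟨b, hb, rfl⟩
        have h1 : ⁅a, b⁆ ∈ derivedSeries M (j + 1) := by
          rw [derivedSeries_succ]; exact Subgroup.commutator_mem_commutator ha hb
        rw [hj2, Subgroup.mem_bot, commutatorElement_eq_one_iff_mul_comm] at h1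
        exact congrArg M.subtype h1
    haveI := hNn
    set q := QuotientGroup.mk' N with hq
    have hqs := QuotientGroup.mk'_surjective N
    haveI : (M.map q).Normal := hMn.map q hqs
    haveI := hsol
    have hsol' : Group.IsSolvable (M.map q) :=
      Group.isSolvable_of_surjective (f := q.subgroupMap M) (q.subgroupMap_surjective M)
    have hMp' : ¬ p ∣ Nat.card (M.map q) := fun h =>
      hMp (h.trans (Subgroup.card_map_dvd M q))
    by_cases hxc : q x ∈ Subgroup.centralizer ((M.map q : Subgroup (G ⧸ N)) : Set (G ⧸ N))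
    · -- `x` acts trivially above `N`
      have hmodN : ∀ g, ∀ m ∈ M, m⁻¹ * ((g * x * g⁻¹) * m * (g * x * g⁻¹)⁻¹) ∈ N := by
        intro g m hm
        rw [← QuotientGroup.eq_one_iff (N := N)]
        show q _ = 1
        have hm' : g⁻¹ * m * g ∈ M := by simpa [mul_assoc] using hMn.conj_mem m hm g⁻¹
        have h := Subgroup.mem_centralizer_iff.1 hxc (q (g⁻¹ * m * g)) (Subgroup.mem_map_of_mem q hm')
        simp only [map_mul, map_inv] at h ⊢
        have h' : q x * ((q g)⁻¹ * q m * q g) * (q x)⁻¹ = (q g)⁻¹ * q m * q g := by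
          rw [← h]; group
        calc (q m)⁻¹ * (q g * q x * (q g)⁻¹ * q m * (q g * q x * (q g)⁻¹)⁻¹)
            = (q m)⁻¹ * (q g * (q x * ((q g)⁻¹ * q m * q g) * (q x)⁻¹) * (q g)⁻¹) := by group
          _ = 1 := by rw [h']; group
      have hxN : ¬ ∀ a ∈ N, x * a = a * x := by
        intro h
        refine hxM (CfsgLib.CoprimeAction.le_centralizer_of_series (A := Subgroup.zpowers x) hNM ?_ ?_ ?_
          (Subgroup.mem_zpowers x))
        · rw [Nat.card_zpowers, hk]
          exact Nat.Coprime.pow_left k (hp.out.coprime_iff_not_dvd.2 fun hd =>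
            hMp (hd.trans (Subgroup.card_dvd_of_le hNM)))
        · rw [Subgroup.zpowers_le, Subgroup.mem_centralizer_iff]
          exact fun a ha => (h a ha).symm
        · intro a ha m hm
          obtain ⟨i, rfl⟩ := Subgroup.mem_zpowers_iff.1 ha
          have hcent : q (x ^ i) ∈ Subgroup.centralizer ((M.map q : Subgroup (G ⧸ N)) : Set (G ⧸ N)) := by
            rw [map_zpow]; exact Subgroup.zpow_mem _ hxc i
          rw [← QuotientGroup.eq_one_iff (N := N)]
          show q _ = 1
          have h2 := Subgroup.mem_centralizer_iff.1 hcent (q m) (Subgroup.mem_map_of_mem q hm)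
          simp only [map_mul, map_inv]
          rw [← h2]
          group
      letI : CommGroup N :=
        { (inferInstance : Group N) with mul_comm := fun a b => Subtype.ext (hNab a a.2 b b.2) }
      haveI := Fintype.ofFinite N
      let ρ : G →* MulAut (N →* ℂˣ) :=
        { toFun := fun g =>
            { toFun := fun l => l.comp (MulAut.conjNormal g⁻¹ : MulAut N).toMonoidHom
              invFun := fun l => l.comp (MulAut.conjNormal g : MulAut N).toMonoidHom
              left_inv := fun l => MonoidHom.ext fun a => by simp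
              right_inv := fun l => MonoidHom.ext fun a => by simp
              map_mul' := fun l l' => MonoidHom.ext fun a => rfl }
          map_one' := MulEquiv.ext fun l => MonoidHom.ext fun a => by simp
          map_mul' := fun g h => MulEquiv.ext fun l => MonoidHom.ext fun a => by
            simp [mul_assoc] }
      have hρN : ∀ a ∈ N, ρ a = 1 := fun a ha => MulEquiv.ext fun l => MonoidHom.ext fun b => by
        show l (MulAut.conjNormal a⁻¹ b) = l b
        refine congrArg l (Subtype.ext ?_)
        rw [MulAut.conjNormal_apply, inv_inv, hNab _ (inv_mem ha) b b.2, inv_mul_cancel_right]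
      have hρker : ∀ g, ρ g = 1 → ∀ a ∈ N, g * a = a * g := by
        intro g hg a ha
        have key : (MulAut.conjNormal g⁻¹ (⟨a, ha⟩ : N) : N) = ⟨a, ha⟩ := by
          by_contra hne
          obtain ⟨l, hl⟩ := CommGroup.exists_apply_ne_one_of_hasEnoughRootsOfUnity N ℂ
            (a := (MulAut.conjNormal g⁻¹ (⟨a, ha⟩ : N) : N) * (⟨a, ha⟩ : N)⁻¹)
            (fun h => hne (mul_inv_eq_one.1 h))
          apply hl
          have h2 : l (MulAut.conjNormal g⁻¹ (⟨a, ha⟩ : N)) = l ⟨a, ha⟩ :=
            DFunLike.congr_fun (DFunLike.congr_fun hg l) (⟨a, ha⟩ : N)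
          rw [map_mul, map_inv l, h2, mul_inv_cancel]
        have h3 := congrArg Subtype.val key
        rw [MulAut.conjNormal_apply, inv_inv] at h3
        calc g * a = g * (g⁻¹ * a * g) := by rw [h3]
          _ = a * g := by group
      -- the conjugates of `x` commute in their action
      have hmc : ∀ g, ∀ m ∈ M, Commute (ρ (g * x * g⁻¹)) (ρ m) := by
        intro g m hm
        have h := hρN _ (hmodN g m hm)
        simp only [map_mul, map_inv] at h ⊢
        exact mul_inv_eq_iff_eq_mul.1 ((inv_mul_eq_one.1 h).symm)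
      have hordx : ∀ g, ρ (g * x * g⁻¹) ^ p ^ k = 1 := fun g => by
        rw [← map_pow, conj_pow, ← hk, pow_orderOf_eq_one, mul_one, mul_inv_cancel, map_one]
      have hcc : ∀ g h, Commute (ρ (g * x * g⁻¹)) (ρ (h * x * h⁻¹)) := by
        intro g h
        have hc : ⁅g * x * g⁻¹, h * x * h⁻¹⁆ ∈ M := by
          have := hMn.conj_mem _ (hcomm (g⁻¹ * h)) g
          convert this using 1
          simp only [commutatorElement_def]
          group
        refine commute_of_commutator_commute (c := ρ ⁅g * x * g⁻¹, h * x * h⁻¹⁆) ?_ (hmc g _ hc)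
          (hordx g) (m := Nat.card M) ?_ (Nat.Coprime.pow_left k (hp.out.coprime_iff_not_dvd.2 hMp))
        · rw [← map_inv, ← map_mul, ← map_mul, ← map_mul]
          exact congrArg ρ (by simp only [commutatorElement_def]; group)
        · rw [← map_pow]
          have := congrArg Subtype.val (pow_card_eq_one' (x := (⟨_, hc⟩ : M)))
          simp only [SubmonoidClass.coe_pow, Subgroup.coe_one] at this
          rw [this, map_one]
      set A := Subgroup.closure (Set.range fun g => ρ (g * x * g⁻¹)) with hA
      haveI hAc : IsMulCommutative A := Subgroup.isMulCommutative_closure (by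
        rintro _ ⟨g, rfl⟩ _ ⟨h, rfl⟩
        exact hcc g h)
      letI : CommGroup A := { (inferInstance : Group A) with mul_comm := hAc.is_comm.comm }
      have hcardD : Nat.card (N →* ℂˣ) = Nat.card N :=
        Nat.card_congr (CommGroup.monoidHom_mulEquiv_of_hasEnoughRootsOfUnity N ℂ).some.toEquiv
      haveI : Finite (N →* ℂˣ) := Nat.finite_of_card_ne_zero (hcardD ▸ Nat.card_pos.ne')
      have hApow : IsPGroup p A := by
        rintro ⟨a, ha⟩
        refine ⟨k, Subtype.ext ?_⟩
        show a ^ p ^ k = 1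
        induction ha using Subgroup.closure_induction with
        | mem y hy => obtain ⟨g, rfl⟩ := hy; exact hordx g
        | one => exact one_pow _
        | mul y z hy hz h1 h2 =>
          rw [(show Commute y z from congrArg Subtype.val (hAc.is_comm.comm (⟨y, hy⟩ : A) ⟨z, hz⟩)).mul_pow,
            h1, h2, one_mul]
        | inv y hy h1 => rw [inv_pow, h1, inv_one]
      have hNp : ¬ p ∣ Nat.card N := fun hd => hMp (hd.trans (Subgroup.card_dvd_of_le hNM))
      haveI : Finite (MulAut (N →* ℂˣ)) := Finite.of_injective (fun e => (e : (N →* ℂˣ) → (N →* ℂˣ)))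
        DFunLike.coe_injective
      obtain ⟨a, ha⟩ := IsPGroup.iff_card.1 hApow
      obtain ⟨l, hl⟩ := exists_regular_vector _ (N →* ℂˣ) A.subtype rfl (by
        rw [ha, hcardD]
        exact Nat.Coprime.pow_left a (hp.out.coprime_iff_not_dvd.2 hNp))
      haveI := Fintype.ofFinite (N.subgroupOf M)
      let lM : IrrCharacter (N.subgroupOf M) :=
        ⟨_, isIrrCharacter_linear (l.comp (Subgroup.subgroupOfEquivOfLe hNM).toMonoidHom)⟩
      obtain ⟨θ, hθ⟩ := CfsgLib.BlockLocal.exists_over (N.subgroupOf M) lM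
      refine ⟨θ, fun g hg => hxN ?_⟩
      set e := g * x * g⁻¹ with he
      rw [mem_inertia, CfsgLib.Clifford.conjChar_eq_comp] at hg
      let l' : N →* ℂˣ := l.comp (MulAut.conjNormal e : MulAut N).toMonoidHom
      let lM' : IrrCharacter (N.subgroupOf M) :=
        ⟨_, isIrrCharacter_linear (l'.comp (Subgroup.subgroupOfEquivOfLe hNM).toMonoidHom)⟩
      have hθ' : classInner (fun a : N.subgroupOf M => (θ : M → ℂ) a) (lM' : N.subgroupOf M → ℂ) ≠ 0 := by
        let ee : N.subgroupOf M ≃* N.subgroupOf M :=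
          ((Subgroup.subgroupOfEquivOfLe hNM).trans (MulAut.conjNormal e : MulAut N)).trans
            (Subgroup.subgroupOfEquivOfLe hNM).symm
        have h := CfsgLib.Clifford.classInner_comp_mulEquiv ee
          (fun a : N.subgroupOf M => (θ : M → ℂ) a) (lM : N.subgroupOf M → ℂ)
        rw [show (fun a => (θ : M → ℂ) (ee a : N.subgroupOf M)) =
            (fun a : N.subgroupOf M => (θ : M → ℂ) a) from funext fun a => by
          refine Eq.trans ?_ (congrFun hg (a : M))
          exact congrArg θ.1 (Subtype.ext (by simp [ee]))] at h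
        rw [show (lM' : N.subgroupOf M → ℂ) = fun a => (lM : N.subgroupOf M → ℂ) (ee a) from
          funext fun a => by simp [lM, lM', l', ee], h]
        exact hθ
      obtain ⟨m, hm⟩ := CfsgLib.Clifford.exists_conj_of_constituents (N.subgroupOf M) θ.2 lM.2 lM'.2 hθ hθ'
      have hfix : (ρ e) ((ρ (m : G))⁻¹ l) = l := by
        have hlm : (ρ (m : G))⁻¹ l = (ρ e)⁻¹ l := by
          refine MonoidHom.ext fun b => Units.ext ?_
          have h := congrFun hm ((Subgroup.subgroupOfEquivOfLe hNM).symm b)
          rw [CfsgLib.Clifford.conjChar_eq_comp] at h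
          simp only [lM, lM', l', MonoidHom.comp_apply, MulEquiv.coe_toMonoidHom,
            MulEquiv.apply_symm_apply] at h
          rw [← map_inv, ← map_inv]
          show (l (MulAut.conjNormal (m : G)⁻¹⁻¹ b) : ℂ) = (l (MulAut.conjNormal e⁻¹⁻¹ b) : ℂ)
          rw [inv_inv, inv_inv, h]
          exact congrArg (fun z => (l z : ℂ)) (Subtype.ext (by simp))
        rw [hlm, MulAut.apply_inv_self]
      -- powers
      have hc2 : Commute (ρ e) (ρ (m : G))⁻¹ := (hmc g m m.2).inv_right
      have hpow : ∀ i : ℕ, (ρ e ^ i * ((ρ (m : G))⁻¹) ^ i) l = l := by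
        intro i
        rw [← hc2.mul_pow]
        induction i with
        | zero => rfl
        | succ i ihi => rw [pow_succ, MulAut.mul_apply, MulAut.mul_apply, hfix, ihi]
      have hMpow : (ρ e ^ Nat.card M) l = l := by
        have h := hpow (Nat.card M)
        have hm1 := congrArg Subtype.val (pow_card_eq_one' (x := m))
        simp only [SubmonoidClass.coe_pow, Subgroup.coe_one] at hm1
        rw [inv_pow, ← map_pow ρ (m : G), hm1, map_one, inv_one, mul_one] at h
        exact h
      have heA : ρ e ∈ A := Subgroup.subset_closure ⟨g, rfl⟩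
      have h1 : ρ e ^ Nat.card M = 1 := hl ⟨_, pow_mem heA _⟩ hMpow
      have h2 : ρ e = 1 := orderOf_eq_one_iff.1 (Nat.eq_one_of_dvd_coprimes
        (Nat.Coprime.pow_left k (hp.out.coprime_iff_not_dvd.2 hMp))
        (orderOf_dvd_of_pow_eq_one (hordx g)) (orderOf_dvd_of_pow_eq_one h1))
      intro a ha
      have h3 := hρker e h2 (g * a * g⁻¹) (hNn.conj_mem a ha g)
      rw [he, show g * x * g⁻¹ * (g * a * g⁻¹) = g * (x * a) * g⁻¹ by group,
        show g * a * g⁻¹ * (g * x * g⁻¹) = g * (a * x) * g⁻¹ by group] at h3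
      exact mul_left_cancel (mul_right_cancel h3)
    · -- pass to the quotient
      have hlt : Nat.card (G ⧸ N) < n := by
        rw [← hn, Subgroup.card_eq_card_quotient_mul_card_subgroup N]
        exact lt_mul_of_one_lt_right Nat.card_pos (N.one_lt_card_iff_ne_bot.2 hNne)
      obtain ⟨i, -, hi⟩ := (Nat.dvd_prime_pow hp.out).1 (hk ▸ orderOf_map_dvd q x)
      obtain ⟨θ, hθ⟩ := ih _ hlt (G ⧸ N) (M.map q) (q x) rfl hsol' hMp' ⟨i, hi⟩ (fun g => by
        obtain ⟨g, rfl⟩ := hqs g
        rw [← map_mul, ← map_inv, ← map_mul, ← map_commutatorElement]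
        exact Subgroup.mem_map_of_mem q (hcomm g)) hxc
      refine ⟨⟨_, isIrrCharacter_comp θ.2 (f := q.subgroupMap M) (q.subgroupMap_surjective M)⟩,
        fun g hg => hθ (q g) ?_⟩
      rw [mem_inertia, CfsgLib.Clifford.conjChar_eq_comp] at hg ⊢
      funext y
      obtain ⟨m, rfl⟩ := q.subgroupMap_surjective M y
      refine Eq.trans ?_ (congrFun hg m)
      refine congrArg θ.1 (Subtype.ext ?_)
      rw [MulAut.conjNormal_apply]
      show (q g * q x * (q g)⁻¹) * q (m : G) * (q g * q x * (q g)⁻¹)⁻¹ =
        q ((MulAut.conjNormal (g * x * g⁻¹) m : M) : G)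
      rw [MulAut.conjNormal_apply]
      simp only [map_mul, map_inv]

/-- The vanishing criterion. -/
theorem exists_vanishing {G : Type u} [Group G] [Finite G] {p : ℕ} [Fact p.Prime] (M : Subgroup G)
    [M.Normal] (hsol : Group.IsSolvable M) (hMp : ¬ p ∣ Nat.card M) {x : G}
    (hx : ∃ k, orderOf x = p ^ k) (hcomm : ∀ g, ⁅x, g * x * g⁻¹⁆ ∈ M)
    (hxM : x ∉ Subgroup.centralizer (M : Set G)) {y : G} (hy : ∃ j : ℕ, y ^ j = x) :
    ∃ χ : IrrCharacter G, (χ : G → ℂ) y = 0 := by
  classical
  haveI := Fintype.ofFinite G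
  haveI := Fintype.ofFinite M
  obtain ⟨θ, hθ⟩ := exists_moved_character _ G M x rfl hsol hMp hx hcomm hxM
  obtain ⟨χ, hχ⟩ := CfsgLib.BlockLocal.exists_over M θ
  haveI := Fintype.ofFinite (inertia M (θ : M → ℂ))
  obtain ⟨ψ, -, hψ, -⟩ := CfsgLib.Clifford.exists_indFun_inertia_eq θ.2
    (fun g => mem_inertia M _ g) (fun g hg => by
      rw [mem_inertia, CfsgLib.Clifford.conjChar_eq_comp]
      funext m
      refine Eq.trans ?_ (IsIrrCharacter.isClassFunction θ.2 m ⟨g, hg⟩)
      exact congrArg θ.1 (Subtype.ext (by simp))) χ.2 hχ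
  refine ⟨χ, ?_⟩
  rw [← hψ]
  refine CfsgLib.Frobenius.indFun_eq_zero_of_forall_conj_not_mem _ _ fun z hz => hθ z⁻¹ ?_
  obtain ⟨j, rfl⟩ := hy
  have := Subgroup.pow_mem _ hz j
  rw [show z⁻¹ * y * z = z⁻¹ * y * z⁻¹⁻¹ by group, conj_pow] at this
  exact this

end CfsgLib.Correspondences
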