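import Mathlib
import Cfsg.Agent.Lib.Correspondences.VanishingLift
import Cfsg.Agent.Lib.MetacyclicP.ExpBound
import Cfsg.Agent.Lib.PSolvable.HallHigman
import Cfsg.Agent.Lib.Cores.FPF
import Cfsg.Agent.Lib.Correspondences.SeparableDegrees
import Cfsg.Agent.Lib.Cores.PCore

/-!
Solvable groups with trivial `p`-core in which vanishing `p`-elements control the vanishing
`p`-singular elements: the square of `p` does not divide the order.
-/

set_option autoImplicit false
set_option linter.style.haveILetI false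
set_option linter.unusedSectionVars false

namespace CfsgLib.Correspondences

open Cfsg CfsgLib.CharTheory
open scoped commutatorElement

/-- An element with some irreducible character vanishing at it. -/
def IsVan {X : Type*} [Group X] (y : X) : Prop :=
  ∃ χ : IrrCharacter X, (χ : X → ℂ) y = 0

theorem IsVan.of_map {X Y : Type*} [Group X] [Group Y] {f : X →* Y} (hf : Function.Surjective f)
    {x : X} (h : IsVan (f x)) : IsVan x := by
  obtain ⟨χ, hχ⟩ := h
  exact ⟨⟨_, isIrrCharacter_comp χ.2 (f := f) hf⟩, hχ⟩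

theorem sq_not_dvd_card_of_van {X : Type*} [Group X] [Finite X] [Group.IsSolvable X] {p : ℕ}
    [hp : Fact p.Prime] (hcore : pCore p X = ⊥)
    (ha : ∀ x y : X, (∃ k, orderOf x = p ^ k) → x ≠ 1 → IsVan x → p ∣ orderOf y → IsVan y →
      ∃ k, orderOf y = p ^ k)
    (hb : ∀ x : X, (∃ k, orderOf x = p ^ k) → x ^ p ≠ 1 → IsVan x → IsVan (x ^ p) → False) :
    ¬ p ^ 2 ∣ Nat.card X := by
  classical
  intro hsq
  have hpX : p ∣ Nat.card X := (dvd_pow_self p two_ne_zero).trans hsq
  have hps : IsPSolvable p X := CfsgLib.PSolvable.isPSolvable_of_isSolvable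
  set M := pPrimeCore p X with hM
  have hMp : ¬ p ∣ Nat.card M := CfsgLib.Cores.not_dvd_card_pPrimeCore
  have hCM : Subgroup.centralizer (M : Set X) ≤ M :=
    CfsgLib.MetacyclicP.centralizer_pPrimeCore_le_self hps hcore
  haveI : M.Characteristic := CfsgLib.Cores.pPrimeCore_characteristic p X
  set q := QuotientGroup.mk' M with hq
  have hqs := QuotientGroup.mk'_surjective M
  obtain ⟨P⟩ : Nonempty (Sylow p X) := inferInstance
  set W := pCore p (X ⧸ M) with hW
  haveI : W.Characteristic := CfsgLib.Cores.pCore_characteristic p (X ⧸ M)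
  have hinj : ∀ x ∈ (P : Subgroup X), x ∈ M → x = 1 := fun x hxP hxM =>
    orderOf_eq_one_iff.1 (Nat.eq_one_of_dvd_coprimes (coprime_of_pgroup P.2 hMp)
      (Subgroup.orderOf_dvd_natCard _ hxP) (Subgroup.orderOf_dvd_natCard _ hxM))
  have hlift : ∀ w ∈ W, ∃ x ∈ (P : Subgroup X), q x = w := fun w hw =>
    Subgroup.mem_map.1 (CfsgLib.Cores.pCore_le_sylow (P.mapSurjective hqs) hw)
  have hpel : ∀ x ∈ (P : Subgroup X), ∃ k, orderOf x = p ^ k := fun x hx => by
    obtain ⟨k, hk⟩ := IsPGroup.iff_orderOf.1 P.2 ⟨x, hx⟩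
    exact ⟨k, by rw [← hk, ← Subgroup.orderOf_coe]⟩
  have hMne : M ≠ ⊥ := by
    intro h
    have h1 : (⊤ : Subgroup X) ≤ ⊥ := by
      refine le_trans (fun x _ => Subgroup.mem_centralizer_iff.2 fun y hy => ?_) (hCM.trans h.le)
      rw [h] at hy
      rw [Subgroup.mem_bot.1 hy, one_mul, mul_one]
    rw [le_bot_iff] at h1
    rw [← Subgroup.card_top, h1, Subgroup.card_bot, Nat.dvd_one] at hpX
    exact hp.out.ne_one hpX
  -- fixed points of vanishing elements
  have hgood : ∀ x ∈ (P : Subgroup X), x ≠ 1 → (∀ c ∈ M, x * c = c * x → IsVan (x * c)) →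
      (M ⊓ Subgroup.centralizer ({x} : Set X)) = ⊥ := by
    intro x hx hx1 hvan
    refine (Subgroup.eq_bot_iff_forall _).2 fun c hc => ?_
    have hcm : x * c = c * x := (Subgroup.mem_centralizer_singleton_iff.1 hc.2).symm
    have hcop : Nat.Coprime (orderOf x) (orderOf c) :=
      ((coprime_of_pgroup P.2 hMp).coprime_dvd_left (Subgroup.orderOf_dvd_natCard _ hx)).coprime_dvd_right
        (Subgroup.orderOf_dvd_natCard _ hc.1)
    have hord : orderOf (x * c) = orderOf x * orderOf c := Commute.orderOf_mul_eq_mul_orderOf_of_coprime hcm hcop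
    obtain ⟨k, hk⟩ := hpel x hx
    have hk0 : k ≠ 0 := fun h => hx1 (orderOf_eq_one_iff.1 (by rw [hk, h, pow_zero]))
    obtain ⟨j, hj⟩ := ha x (x * c) ⟨k, hk⟩ hx1 (by simpa using hvan 1 M.one_mem (by simp))
      (by rw [hord, hk]; exact (dvd_pow_self p hk0).mul_right _) (hvan c hc.1 hcm)
    obtain ⟨i, -, hi⟩ := (Nat.dvd_prime_pow hp.out).1 (hj ▸ hord ▸ dvd_mul_left (orderOf c) (orderOf x))
    rcases i with _ | i
    · exact orderOf_eq_one_iff.1 (by rw [hi, pow_zero])
    · exact absurd ((dvd_pow_self p i.succ_ne_zero).trans (hi ▸ Subgroup.orderOf_dvd_natCard M hc.1)) hMp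
  -- commutative subgroups with fixed-point-free preimages
  have hsmall : ∀ A : Subgroup (X ⧸ M), IsMulCommutative A → A ≤ W →
      (∀ x ∈ (P : Subgroup X), x ≠ 1 → q x ∈ A →
        (M ⊓ Subgroup.centralizer ({x} : Set X)) = ⊥ ∧ x ^ p = 1) → Nat.card A ∣ p := by
    intro A hAc hAW hA
    let B := (P : Subgroup X) ⊓ A.comap q
    let f : B →* A := (q.comp B.subtype).codRestrict A fun b => b.2.2
    have hf : Function.Bijective f := by
      refine ⟨(injective_iff_map_eq_one f).2 fun b hb => Subtype.ext (hinj _ b.2.1 ?_), fun a => ?_⟩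
      · exact (QuotientGroup.eq_one_iff _).1 (congrArg Subtype.val hb)
      · obtain ⟨x, hx, hxa⟩ := hlift a (hAW a.2)
        exact ⟨⟨x, hx, show q x ∈ A from hxa ▸ a.2⟩, Subtype.ext hxa⟩
    haveI : IsMulCommutative B := ⟨⟨fun a b => hf.1 (by rw [map_mul, map_mul]; exact hAc.is_comm.comm _ _)⟩⟩
    haveI : IsCyclic B := CfsgLib.Cores.isCyclic_of_fpf hMne Subgroup.le_normalizer_of_normal
      fun a ha h1 => (hA a ha.1 h1 ha.2).1
    obtain ⟨b, hb⟩ := IsCyclic.exists_ofOrder_eq_natCard (α := B)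
    rw [← Nat.card_eq_of_bijective f hf, ← hb]
    refine orderOf_dvd_of_pow_eq_one ?_
    rcases eq_or_ne b 1 with rfl | hb1
    · exact one_pow _
    · exact Subtype.ext (by
        simpa using (hA b b.2.1 (fun h => hb1 (Subtype.ext h)) b.2.2).2)
  -- normal commutative subgroups inside `W`
  have hvanA : ∀ A : Subgroup (X ⧸ M), A.Normal → IsMulCommutative A → ∀ x ∈ (P : Subgroup X), x ≠ 1 →
      q x ∈ A → ∀ c ∈ M, x * c = c * x → IsVan (x * c) := by
    intro A hAn hAc x hx hx1 hxA c hc hcm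
    refine exists_vanishing M inferInstance hMp (hpel x hx) (fun g => ?_)
      (fun h => hx1 (hinj x hx (hCM h))) ?_
    · rw [← QuotientGroup.eq_one_iff (N := M)]
      show q _ = 1
      rw [map_commutatorElement, commutatorElement_eq_one_iff_mul_comm, map_mul, map_mul, map_inv]
      exact congrArg Subtype.val (hAc.is_comm.comm (⟨q x, hxA⟩ : A) ⟨_, hAn.conj_mem _ hxA (q g)⟩)
    · obtain ⟨j, hj1, hj2⟩ := Nat.chineseRemainder
        (show Nat.Coprime (orderOf x) (orderOf c) from
          ((coprime_of_pgroup P.2 hMp).coprime_dvd_left (Subgroup.orderOf_dvd_natCard _ hx)).coprime_dvd_right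
            (Subgroup.orderOf_dvd_natCard _ hc)) 1 0
      refine ⟨j, ?_⟩
      rw [Commute.mul_pow hcm, pow_eq_pow_iff_modEq.2 hj1, pow_one,
        orderOf_dvd_iff_pow_eq_one.1 (Nat.modEq_zero_iff_dvd.1 hj2), mul_one]
  have hpowvan : ∀ x ∈ (P : Subgroup X), (x ^ p ≠ 1 → IsVan (x ^ p)) → IsVan x → x ^ p = 1 :=
    fun x hx h1 h2 => by_contra fun h => hb x (hpel x hx) h h2 (h1 h)
  have hA : ∀ A : Subgroup (X ⧸ M), A.Normal → IsMulCommutative A → A ≤ W → Nat.card A ∣ p := by
    intro A hAn hAc hAW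
    refine hsmall A hAc hAW fun x hx hx1 hxA => ⟨hgood x hx hx1 (hvanA A hAn hAc x hx hx1 hxA), ?_⟩
    refine hpowvan x hx (fun h => ?_) (by simpa using hvanA A hAn hAc x hx hx1 hxA 1 M.one_mem (by simp))
    simpa using hvanA A hAn hAc (x ^ p) (pow_mem hx p) h (by rw [map_pow]; exact pow_mem hxA p) 1
      M.one_mem (by simp)
  have hWp : IsPGroup p W := CfsgLib.Cores.isPGroup_pCore p _
  have hps' : IsPSolvable p (X ⧸ M) := CfsgLib.PSolvable.isPSolvable_quotient hps M
  have hCW : Subgroup.centralizer (W : Set (X ⧸ M)) ≤ W :=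
    CfsgLib.PSolvable.centralizer_pCore_le hps' (CfsgLib.Cores.pPrimeCore_quotient_pPrimeCore p)
  have hpK : p ^ 2 ∣ Nat.card (X ⧸ M) := by
    rw [Subgroup.card_eq_card_quotient_mul_card_subgroup M] at hsq
    exact (Nat.Coprime.pow_left 2 (hp.out.coprime_iff_not_dvd.2 hMp)).dvd_of_dvd_mul_right hsq
  have hWne : W ≠ ⊥ := by
    intro h
    have h1 : (⊤ : Subgroup (X ⧸ M)) ≤ ⊥ := by
      refine le_trans (fun x _ => Subgroup.mem_centralizer_iff.2 fun y hy => ?_) (hCW.trans h.le)
      rw [h] at hy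
      rw [Subgroup.mem_bot.1 hy, one_mul, mul_one]
    rw [le_bot_iff] at h1
    rw [← Subgroup.card_top, h1, Subgroup.card_bot, Nat.dvd_one] at hpK
    have := hp.out.two_le
    nlinarith
  have hWc : IsMulCommutative W := by
    by_contra hWc
    set Z := (Subgroup.center W).map W.subtype with hZ
    haveI : Z.Normal := inferInstance
    have hZc : IsMulCommutative Z := Subgroup.map_isMulCommutative _ _
    have hZW : Z ≤ W := Subgroup.map_subtype_le _
    have hZp : Nat.card Z ∣ p := hA Z inferInstance hZc hZW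
    have hZcent : ∀ z ∈ Z, ∀ w ∈ W, w * z = z * w := by
      rintro _ ⟨z, hz, rfl⟩ w hw
      exact congrArg Subtype.val (Subgroup.mem_center_iff.1 hz ⟨w, hw⟩)
    obtain ⟨x₀, hx₀Z, hx₀c⟩ : ∃ x₀ : W, x₀ ∉ Subgroup.center W ∧ ∀ w : W, ⁅w, x₀⁆ ∈ Subgroup.center W := by
      haveI : Nontrivial (W ⧸ Subgroup.center W) := by
        rw [QuotientGroup.nontrivial_iff]
        exact fun h => hWc ⟨⟨fun a b => (Subgroup.mem_center_iff.1 (h ▸ Subgroup.mem_top b) a)⟩⟩
      haveI := (hWp.to_quotient (Subgroup.center W)).center_nontrivial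
      obtain ⟨⟨y, hy⟩, hy1⟩ := exists_ne (1 : Subgroup.center (W ⧸ Subgroup.center W))
      obtain ⟨x₀, rfl⟩ := QuotientGroup.mk'_surjective _ y
      refine ⟨x₀, fun h => hy1 (Subtype.ext ((QuotientGroup.eq_one_iff _).2 h)), fun w => ?_⟩
      rw [← QuotientGroup.eq_one_iff (N := Subgroup.center W)]
      show QuotientGroup.mk' _ _ = 1
      rw [map_commutatorElement, commutatorElement_eq_one_iff_mul_comm]
      exact Subgroup.mem_center_iff.1 hy _
    set U := Z ⊔ Subgroup.zpowers (x₀ : X ⧸ M) with hU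
    have hUW : U ≤ W := sup_le hZW (Subgroup.zpowers_le.2 x₀.2)
    have hUc : IsMulCommutative U := by
      refine Subgroup.le_centralizer_iff_isMulCommutative.1 ?_
      have h1 : Z ≤ Subgroup.centralizer (U : Set (X ⧸ M)) := fun z hz =>
        Subgroup.mem_centralizer_iff.2 fun u hu => hZcent z hz u (hUW hu)
      refine sup_le h1 (Subgroup.zpowers_le.2 (Subgroup.mem_centralizer_iff.2 fun u hu => ?_))
      have h2 : Subgroup.zpowers (x₀ : X ⧸ M) ≤ Subgroup.centralizer ({(x₀ : X ⧸ M)} : Set (X ⧸ M)) :=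
        Subgroup.zpowers_le.2 (Subgroup.mem_centralizer_singleton_iff.2 rfl)
      have h3 : Z ≤ Subgroup.centralizer ({(x₀ : X ⧸ M)} : Set (X ⧸ M)) := fun z hz =>
        Subgroup.mem_centralizer_singleton_iff.2 (hZcent z hz _ x₀.2).symm
      exact Subgroup.mem_centralizer_singleton_iff.1 (sup_le h3 h2 hu)
    -- elements of the second centre outside the centre vanish
    have hvan2 : ∀ u : X ⧸ M, ∀ hu : u ∈ W, (⟨u, hu⟩ : W) ∉ Subgroup.center W →
        (∀ w : W, ⁅w, (⟨u, hu⟩ : W)⁆ ∈ Subgroup.center W) → IsVan u := by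
      intro u hu huZ huc
      obtain ⟨w, hw⟩ : ∃ w : W, w * ⟨u, hu⟩ ≠ ⟨u, hu⟩ * w := by
        by_contra hall
        push Not at hall
        exact huZ (Subgroup.mem_center_iff.2 hall)
      set z := ⁅w, (⟨u, hu⟩ : W)⁆ with hz
      have hzc : (z : X ⧸ M) ∈ Z := Subgroup.mem_map_of_mem W.subtype (huc w)
      have hz1 : (z : X ⧸ M) ≠ 1 := fun h => hw (commutatorElement_eq_one_iff_mul_comm.1 (Subtype.ext h))
      obtain ⟨χ, hχ⟩ := exists_irr_apply_ne (G := X ⧸ M) hz1
      refine ⟨χ, ?_⟩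
      haveI := Fintype.ofFinite Z
      have hZcard : Nat.card Z = p := ((Nat.dvd_prime hp.out).1 hZp).resolve_left fun h =>
        hz1 (Subgroup.mem_bot.1 (Subgroup.eq_bot_of_card_eq Z h ▸ hzc))
      have hsum := sum_coset_eq_zero χ.2 Z ⟨_, hzc, hχ⟩ u
      rw [Finset.sum_congr rfl (g := fun _ => (χ : X ⧸ M → ℂ) u) (fun n _ => ?_), Finset.sum_const,
        Finset.card_univ, ← Nat.card_eq_fintype_card, hZcard, nsmul_eq_mul] at hsum
      · exact (mul_eq_zero.1 hsum).resolve_left (Nat.cast_ne_zero.2 hp.out.ne_zero)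
      · haveI : Fact (Nat.Prime p) := hp
        obtain ⟨i, hi⟩ := Submonoid.mem_powers_iff _ _ |>.1 (mem_powers_of_prime_card hZcard
          (g := (⟨_, hzc⟩ : Z)) (g' := n) (fun h => hz1 (congrArg Subtype.val h)))
        have hconj : ∀ i : ℕ, w ^ i * ⟨u, hu⟩ * (w ^ i)⁻¹ = ⟨u, hu⟩ * z ^ i := by
          intro i
          induction i with
          | zero => simp
          | succ i ihi =>
            have hzw : w * z * w⁻¹ = z := by
              rw [Subgroup.mem_center_iff.1 (huc w) w, mul_inv_cancel_right]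
            calc w ^ (i + 1) * ⟨u, hu⟩ * (w ^ (i + 1))⁻¹
                = w * (w ^ i * ⟨u, hu⟩ * (w ^ i)⁻¹) * w⁻¹ := by rw [pow_succ']; group
              _ = (w * ⟨u, hu⟩ * w⁻¹) * (w * z * w⁻¹) ^ i := by rw [ihi, conj_pow]; group
              _ = ⟨u, hu⟩ * z ^ (i + 1) := by
                  rw [hzw, show w * ⟨u, hu⟩ * w⁻¹ = z * ⟨u, hu⟩ by rw [hz, commutatorElement_def]; group,
                    ← Subgroup.mem_center_iff.1 (huc w) ⟨u, hu⟩, mul_assoc, ← pow_succ']
        have e := congrArg Subtype.val (hconj i)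
        simp only [Subgroup.coe_mul, Subgroup.coe_inv, SubmonoidClass.coe_pow] at e
        have hn : (n : X ⧸ M) = (z : X ⧸ M) ^ i := by rw [← hi]; rfl
        rw [hn, ← e]
        exact IsIrrCharacter.isClassFunction χ.2 u _
    have hcard := hsmall U hUc hUW fun x hx hx1 hxU => by
      have hxW := hUW hxU
      have hsec : ∀ w : W, ⁅w, (⟨q x, hxW⟩ : W)⁆ ∈ Subgroup.center W := by
        intro w
        have hle : U ≤ ((Subgroup.center (W ⧸ Subgroup.center W)).comap
            (QuotientGroup.mk' (Subgroup.center W))).map W.subtype := by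
          refine sup_le (Subgroup.map_mono fun a ha => ?_) (Subgroup.zpowers_le.2 ⟨x₀, ?_, rfl⟩)
          · rw [Subgroup.mem_comap, show QuotientGroup.mk' (Subgroup.center W) a = 1 from
              (QuotientGroup.eq_one_iff _).2 ha]
            exact one_mem _
          · rw [SetLike.mem_coe, Subgroup.mem_comap, Subgroup.mem_center_iff]
            intro y
            obtain ⟨w, rfl⟩ := QuotientGroup.mk'_surjective _ y
            rw [← map_mul, ← map_mul]
            refine congrArg _ (rfl) |>.trans ?_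
            rw [map_mul, map_mul]
            refine commutatorElement_eq_one_iff_mul_comm.1 ?_
            rw [← map_commutatorElement]
            exact (QuotientGroup.eq_one_iff _).2 (hx₀c w)
        obtain ⟨y, hy, hyx⟩ := hle hxU
        have hyq : y = (⟨q x, hxW⟩ : W) := Subtype.ext hyx
        rw [← hyq, ← QuotientGroup.eq_one_iff (N := Subgroup.center W)]
        show QuotientGroup.mk' _ _ = 1
        rw [map_commutatorElement, commutatorElement_eq_one_iff_mul_comm]
        exact Subgroup.mem_center_iff.1 hy _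
      by_cases hxZ : (⟨q x, hxW⟩ : W) ∈ Subgroup.center W
      · have hxZ' : q x ∈ Z := ⟨_, hxZ, rfl⟩
        refine ⟨hgood x hx hx1 (hvanA Z inferInstance hZc x hx hx1 hxZ'), hpowvan x hx (fun h => ?_) ?_⟩
        · simpa using hvanA Z inferInstance hZc (x ^ p) (pow_mem hx p) h
            (by rw [map_pow]; exact pow_mem hxZ' p) 1 M.one_mem (by simp)
        · simpa using hvanA Z inferInstance hZc x hx hx1 hxZ' 1 M.one_mem (by simp)
      · have hv : IsVan (q x) := hvan2 (q x) hxW hxZ hsec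
        refine ⟨hgood x hx hx1 fun c hc _ => IsVan.of_map hqs (by
          rw [map_mul, show q c = 1 from (QuotientGroup.eq_one_iff c).2 hc, mul_one]; exact hv),
          hpowvan x hx (fun h => ?_) (IsVan.of_map hqs hv)⟩
        have hxp : (⟨q x, hxW⟩ : W) ^ p ∈ Subgroup.center W := by
          rw [Subgroup.mem_center_iff]
          intro w
          have hcz := hsec w
          set d := ⁅w, (⟨q x, hxW⟩ : W)⁆ with hd
          have hdp : d ^ p = 1 := by
            refine Subtype.ext ?_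
            have h4 := Subgroup.orderOf_dvd_natCard Z (Subgroup.mem_map_of_mem W.subtype hcz)
            simpa using orderOf_dvd_iff_pow_eq_one.1 (h4.trans hZp)
          have h3 : w * (⟨q x, hxW⟩ : W) ^ p * w⁻¹ = (⟨q x, hxW⟩ : W) ^ p := by
            rw [← conj_pow, show w * (⟨q x, hxW⟩ : W) * w⁻¹ = d * ⟨q x, hxW⟩ by
              rw [hd, commutatorElement_def]; group,
              Commute.mul_pow (Subgroup.mem_center_iff.1 hcz _).symm, hdp, one_mul]
          exact mul_inv_eq_iff_eq_mul.1 h3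
        simpa using hvanA Z inferInstance hZc (x ^ p) (pow_mem hx p) h
          ⟨_, hxp, by simp⟩ 1 M.one_mem (by simp)
    have hZ1 : Z ≠ ⊥ := by
      rw [hZ, Ne, Subgroup.map_eq_bot_iff_of_injective _ W.subtype_injective]
      haveI : Nontrivial W := (Subgroup.nontrivial_iff_ne_bot W).2 hWne
      exact (Subgroup.nontrivial_iff_ne_bot _).1 hWp.center_nontrivial
    have hlt : Z < U := lt_of_le_of_ne le_sup_left fun h => hx₀Z (by
      obtain ⟨y, hy, hyx⟩ := (h.symm ▸ (le_sup_right : _ ≤ U) (Subgroup.mem_zpowers (x₀ : X ⧸ M)) :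
        (x₀ : X ⧸ M) ∈ Z)
      rwa [W.subtype_injective hyx] at hy)
    rcases (Nat.dvd_prime hp.out).1 hcard with h | h
    · exact hZ1 (le_bot_iff.1 (hlt.le.trans (Subgroup.eq_bot_of_card_eq U h).le))
    · rcases (Nat.dvd_prime hp.out).1 hZp with h' | h'
      · exact hZ1 (Subgroup.eq_bot_of_card_eq Z h')
      · exact hlt.ne (Subgroup.eq_of_le_of_card_ge hlt.le (by rw [h, h']))
  have hcW : Nat.card W = p := ((Nat.dvd_prime hp.out).1 (hA W inferInstance hWc le_rfl)).resolve_left
    fun h => hWne (Subgroup.eq_bot_of_card_eq W h)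
  haveI : IsCyclic W := isCyclic_of_prime_card hcW
  have hker : (MulAut.conjNormal : X ⧸ M →* MulAut W).ker ≤ W := by
    intro g hg
    refine hCW (Subgroup.mem_centralizer_iff.2 fun w hw => ?_)
    have := congrArg Subtype.val (DFunLike.congr_fun (MonoidHom.mem_ker.1 hg) (⟨w, hw⟩ : W))
    rw [MulAut.conjNormal_apply] at this
    exact (mul_inv_eq_iff_eq_mul.1 this).symm
  have hidx : W.index ∣ p - 1 := by
    refine (Subgroup.index_dvd_of_le hker).trans ?_
    rw [Subgroup.index_ker, show p - 1 = Nat.card (MulAut W) by rw [IsCyclic.card_mulAut, hcW, Nat.totient_prime hp.out]]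
    exact Subgroup.card_subgroup_dvd_card _
  rw [← Subgroup.card_mul_index W, hcW, pow_two] at hpK
  have h1 := Nat.le_of_dvd (Nat.sub_pos_of_lt hp.out.one_lt)
    (((Nat.mul_dvd_mul_iff_left hp.out.pos).1 hpK).trans hidx)
  have := hp.out.two_le
  omega

/-- If all vanishing `p`-singular elements have the same order, `p ^ 2` does not divide the order
of the quotient by the `p`-core. -/
theorem sq_not_dvd_card_quotient_pCore {G : Type*} [Group G] [Finite G] [Group.IsSolvable G] {p : ℕ}
    [Fact p.Prime] {b : ℕ} (hord : ∀ g : G, p ∣ orderOf g → IsVan g → orderOf g = b) :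
    ¬ p ^ 2 ∣ Nat.card (G ⧸ pCore p G) := by
  classical
  haveI := CfsgLib.Cores.pCore_characteristic p G
  set O := Cfsg.pCore p G with hO
  set π := QuotientGroup.mk' O with hπ
  have hπs := QuotientGroup.mk'_surjective O
  haveI : Group.IsSolvable (G ⧸ O) := Group.isSolvable_of_surjective hπs
  have horder : ∀ g : G, p ∣ orderOf g → IsVan (π g) → orderOf g = b := fun g hg hv =>
    hord g hg (IsVan.of_map hπs hv)
  have hlift : ∀ x : G ⧸ O, (∃ k, orderOf x = p ^ k) → ∃ g : G, π g = x ∧ ∃ k, orderOf g = p ^ k := by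
    rintro x ⟨k, hk⟩
    obtain ⟨h, rfl⟩ := hπs x
    obtain ⟨a, m, hm, ham⟩ := Nat.exists_eq_pow_mul_and_not_dvd (orderOf_pos h).ne' p (Fact.out : p.Prime).ne_one
    obtain ⟨e, he1, he2⟩ := Nat.chineseRemainder
      (show Nat.Coprime (orderOf (π h)) m from
        hk ▸ Nat.Coprime.pow_left k ((Fact.out : p.Prime).coprime_iff_not_dvd.2 hm)) 1 0
    refine ⟨h ^ e, by rw [map_pow, pow_eq_pow_iff_modEq.2 he1, pow_one], ?_⟩
    obtain ⟨i, -, hi⟩ := (Nat.dvd_prime_pow (Fact.out : p.Prime)).1
      (show orderOf (h ^ e) ∣ p ^ a from orderOf_dvd_of_pow_eq_one (by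
        rw [← pow_mul, ← orderOf_dvd_iff_pow_eq_one, ham, mul_comm (p ^ a) m]
        exact Nat.mul_dvd_mul_right (Nat.modEq_zero_iff_dvd.1 he2) _))
    exact ⟨i, hi⟩
  have hkey := sq_not_dvd_card_of_van (X := G ⧸ O) (p := p) (CfsgLib.Cores.pCore_quotient_pCore p G)
    (fun x y hx hx1 hvx hpy hvy => by
      obtain ⟨g, rfl, k, hk⟩ := hlift x hx
      obtain ⟨h, rfl⟩ := hπs y
      have hk0 : k ≠ 0 := fun e => hx1 (by
        rw [e, pow_zero, orderOf_eq_one_iff] at hk; rw [hk, map_one])
      have h1 := horder g (hk ▸ dvd_pow_self p hk0) hvx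
      have h2 := horder h (hpy.trans (orderOf_map_dvd π h)) hvy
      have h3 : orderOf (π h) ∣ p ^ k := (orderOf_map_dvd π h).trans (by rw [h2, ← h1, hk])
      obtain ⟨i, -, hi⟩ := (Nat.dvd_prime_pow (Fact.out : p.Prime)).1 h3
      exact ⟨i, hi⟩)
    (fun x hx hxp hv hvp => by
      obtain ⟨g, rfl, k, hk⟩ := hlift x hx
      have hgp : g ^ p ≠ 1 := fun e => hxp (by rw [← map_pow, e, map_one])
      have hk2 : 2 ≤ k := by
        by_contra hlt
        refine hgp (orderOf_dvd_iff_pow_eq_one.1 ?_)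
        rw [hk]
        exact (pow_dvd_pow p (by omega : k ≤ 1)).trans (pow_one p).dvd
      have h1 := horder g (hk ▸ dvd_pow_self p (by omega)) hv
      have h2 : orderOf (g ^ p) = p ^ (k - 1) := by
        rw [orderOf_pow' g (Fact.out : p.Prime).ne_zero, hk,
          Nat.gcd_eq_right (dvd_pow_self p (by omega)), Nat.div_eq_iff_eq_mul_left
            (Fact.out : p.Prime).pos (dvd_pow_self p (by omega)), ← pow_succ, Nat.sub_add_cancel (by omega)]
      have h3 := horder (g ^ p) (h2 ▸ dvd_pow_self p (by omega)) (by rwa [map_pow])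
      rw [h2, ← h1, hk] at h3
      have := Nat.pow_right_injective (Fact.out : p.Prime).two_le h3
      omega)
  exact hkey

end CfsgLib.Correspondences
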